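import Cfsg.Agent.ChevalleyStructure.Elts
import Cfsg.Agent.ChevalleyStructure.Good

/-!
# The entries of `x_r(t)` are polynomials in `t` of degree `≤ 3` (helper134, for S2484 and S5760)

* `comm_of_card` : a matrix which commutes with `x_r(t)` for 8 values of `t` commutes with all `x_r(t)`;
* `not_frob` : no matrix conjugates `x_r(t ^ 2)` to `x_r(t)` for 8 values of `t`.
-/

set_option autoImplicit false

namespace Cfsg.Agent.H134.Syl.PolyX

open Cfsg.Lie Cfsg.Agent.ChevalleyStructure Polynomial

variable {K : Type*} [Field K]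

/-- polynomial functions of degree at most `n` -/
def Pl (n : ℕ) (g : K → K) : Prop := ∃ P : K[X], P.natDegree ≤ n ∧ ∀ t, g t = P.eval t

theorem Pl.const (n : ℕ) (a : K) : Pl n fun _ : K => a := ⟨C a, by simp, fun t => by simp⟩

theorem Pl.add {n : ℕ} {g h : K → K} (hg : Pl n g) (hh : Pl n h) : Pl n fun t => g t + h t := by
  obtain ⟨P, hP, hg⟩ := hg
  obtain ⟨Q, hQ, hh⟩ := hh
  exact ⟨P + Q, (natDegree_add_le _ _).trans (max_le hP hQ), fun t => by simp only [eval_add, hg, hh]⟩

theorem Pl.mul_const {n : ℕ} {g : K → K} (hg : Pl n g) (a : K) : Pl n fun t => g t * a := by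
  obtain ⟨P, hP, hg⟩ := hg
  exact ⟨P * C a, (natDegree_mul_C_le _ _).trans hP, fun t => by simp only [eval_mul, eval_C, hg]⟩

theorem Pl.const_mul {n : ℕ} {g : K → K} (hg : Pl n g) (a : K) : Pl n fun t => a * g t := by
  obtain ⟨P, hP, hg⟩ := hg
  exact ⟨C a * P, (natDegree_C_mul_le _ _).trans hP, fun t => by simp only [eval_mul, eval_C, hg]⟩

theorem Pl.pow {n k : ℕ} (h : k ≤ n) (a : K) : Pl n fun t : K => a * t ^ k :=
  ⟨C a * X ^ k, (natDegree_C_mul_X_pow_le _ _).trans h, fun t => by simp⟩

theorem Pl.sum {n : ℕ} {ι : Type*} (s : Finset ι) {g : ι → K → K} (h : ∀ i ∈ s, Pl n (g i)) :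
    Pl n fun t => ∑ i ∈ s, g i t := by
  classical
  induction s using Finset.induction_on with
  | empty => simpa using Pl.const n (0 : K)
  | insert i s hi ih =>
    have h1 : (fun t => ∑ i ∈ insert i s, g i t) = fun t => g i t + ∑ i ∈ s, g i t := by
      ext t
      rw [Finset.sum_insert hi]
    rw [h1]
    exact (h i (by simp)).add (ih fun j hj => h j (by simp [hj]))

theorem Pl.listSum {n : ℕ} (l : List (ℕ × ℤ)) (h : ∀ km ∈ l, km.1 ≤ n) :
    Pl n fun t : K => (l.map fun km => ((km.2 : ℤ) : K) * t ^ km.1).sum := by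
  induction l with
  | nil => simpa using Pl.const n (0 : K)
  | cons a l ih =>
    simp only [List.map_cons, List.sum_cons]
    exact (Pl.pow (h a (by simp)) _).add (ih fun km hkm => h km (by simp [hkm]))

theorem Pl.mono {n m : ℕ} (hnm : n ≤ m) {g : K → K} (h : Pl n g) : Pl m g := by
  obtain ⟨P, hP, hg⟩ := h
  exact ⟨P, hP.trans hnm, hg⟩

/-- composition with `t ^ 2` -/
theorem Pl.sq {n : ℕ} {g : K → K} (h : Pl n g) : Pl (n * 2) fun t => g (t ^ 2) := by
  obtain ⟨P, hP, hg⟩ := h
  refine ⟨P.comp (X ^ 2), ?_, fun t => by simp only [hg, eval_comp]; simp⟩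
  rw [natDegree_comp, natDegree_X_pow]
  exact Nat.mul_le_mul_right _ hP

/-- a polynomial function with many zeros -/
theorem Pl.eq_zero {n : ℕ} {g : K → K} (h : Pl n g) (S : Finset K) (hS : n < S.card) (h0 : ∀ t ∈ S, g t = 0) :
    ∀ t, g t = 0 := by
  classical
  obtain ⟨P, hP, hg⟩ := h
  have : P = 0 := by
    by_contra hne
    have h1 : S ⊆ P.roots.toFinset := by
      intro t ht
      rw [Multiset.mem_toFinset, mem_roots hne, IsRoot.def, ← hg]
      exact h0 t ht
    have h2 := (Finset.card_le_card h1).trans (Multiset.toFinset_card_le _)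
    have h3 := P.card_roots'
    omega
  intro t
  rw [hg, this, eval_zero]

variable {D : ChevalleyDatum}

/-- the check -/
def Chk (D : ChevalleyDatum) (r : ℕ) : Prop :=
  ∀ s < D.nroots, ∀ u < D.nroots, ∀ km ∈ D.chainCoeff r s u, km.1 ≤ 3

instance (r : ℕ) : Decidable (Chk D r) := by unfold Chk; infer_instance

/-- **The entries of `x_r(t)`.** -/
theorem pl_x {r : ℕ} (hr : r < D.nroots) (h : Chk D r) (row col : D.Idx) : Pl 3 fun t : K => D.x K r t row col := by
  have e : (fun t : K => D.x K r t row col) = fun t : K => D.xMat K ⟨r, hr⟩ t row col := by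
    ext t
    rw [Good.x_eq_xMat r hr]
  rw [e]
  unfold ChevalleyDatum.xMat
  simp only [Matrix.of_apply]
  rcases col with i | s
  · rcases row with i' | u
    · dsimp only
      split_ifs
      · exact Pl.const _ _
      · exact Pl.const _ _
    · dsimp only
      split_ifs
      · have := Pl.pow (K := K) (n := 3) (k := 1) (by norm_num)
          (-(((D.cartanSR.getD i.val #[]).getD (⟨r, hr⟩ : Fin D.nroots).val 0 : ℤ) : K))
        simpa using this
      · exact Pl.const _ _
  · dsimp only
    split_ifs with h1 h2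
    · rcases row with i' | u
      · exact Pl.const _ _
      · dsimp only
        split_ifs
        · exact Pl.const _ _
        · exact Pl.const _ _
    · rcases row with i' | u
      · have := Pl.pow (K := K) (n := 3) (k := 1) (by norm_num)
          ((((D.coroot.getD (⟨r, hr⟩ : Fin D.nroots).val #[]).getD i'.val 0 : ℤ) : K))
        simpa using this
      · dsimp only
        split_ifs
        · exact Pl.const _ _
        · have := Pl.pow (K := K) (n := 3) (k := 2) (by norm_num) (-1)
          simpa using this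
        · exact Pl.const _ _
    · rcases row with i' | u
      · exact Pl.const _ _
      · dsimp only
        exact (Pl.const _ _).add (Pl.listSum _ fun km hkm => h s.1 s.2 u.1 u.2 km hkm)

/-- **Commuting with 8 elements.** -/
theorem comm_of_card {r : ℕ} (hr : r < D.nroots) (h : Chk D r) (S : Finset K) (hS : 3 < S.card)
    (y : Matrix D.Idx D.Idx K) (hy : ∀ t ∈ S, y * D.x K r t = D.x K r t * y) (t : K) :
    y * D.x K r t = D.x K r t * y := by
  ext i j
  have h1 : Pl 3 fun t : K => (∑ m, y i m * D.x K r t m j) + ∑ m, D.x K r t i m * (-(y m j)) :=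
    (Pl.sum _ fun m _ => (pl_x hr h m j).const_mul _).add (Pl.sum _ fun m _ => (pl_x hr h i m).mul_const _)
  have h2 := h1.eq_zero S hS (fun t ht => by
    have := congrFun (congrFun (hy t ht) i) j
    rw [Matrix.mul_apply, Matrix.mul_apply] at this
    rw [this, ← Finset.sum_add_distrib]
    exact Finset.sum_eq_zero fun m _ => by ring) t
  rw [Matrix.mul_apply, Matrix.mul_apply]
  have h3 : ∑ m, D.x K r t i m * (-(y m j)) = -∑ m, D.x K r t i m * y m j := by
    rw [← Finset.sum_neg_distrib]
    exact Finset.sum_congr rfl fun m _ => by ring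
  rw [h3] at h2
  linear_combination h2

/-- **No Frobenius.** -/
theorem not_frob {r : ℕ} (hr : r < D.nroots) (h : Chk D r) (S : Finset K) (hS : 6 < S.card) {g g' : Matrix D.Idx D.Idx K}
    (hg : g * g' = 1) (hneg : D.negIdx.getD r 0 < D.nroots) (hne : D.negIdx.getD r 0 ≠ r)
    {i : Fin D.rank} (hi : (((D.coroot.getD r #[]).getD i.val 0 : ℤ) : K) ≠ 0)
    (hy : ∀ t ∈ S, g * D.x K r (t ^ 2) = D.x K r t * g) : False := by
  classical
  choose P hP' using fun a b => pl_x (K := K) hr h a b
  have hP : ∀ a b, (P a b).natDegree ≤ 3 ∧ ∀ t, D.x K r t a b = eval t (P a b) := hP'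
  -- the polynomial identity
  have key : ∀ a b, (∑ m, C (g a m) * (P m b).comp (X ^ 2)) = ∑ m, P a m * C (g m b) := by
    intro a b
    by_contra hcon
    have hne0 : (∑ m, C (g a m) * (P m b).comp (X ^ 2)) - ∑ m, P a m * C (g m b) ≠ 0 := sub_ne_zero.2 hcon
    have hdeg : ((∑ m, C (g a m) * (P m b).comp (X ^ 2)) - ∑ m, P a m * C (g m b)).natDegree ≤ 6 := by
      refine (natDegree_sub_le _ _).trans (max_le ?_ ?_)
      · refine natDegree_sum_le_of_forall_le _ _ fun m _ => (natDegree_C_mul_le _ _).trans ?_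
        rw [natDegree_comp, natDegree_X_pow]
        have := (hP m b).1
        omega
      · exact natDegree_sum_le_of_forall_le _ _ fun m _ => (natDegree_mul_C_le _ _).trans ((hP a m).1.trans (by norm_num))
    have h1 : S ⊆ ((∑ m, C (g a m) * (P m b).comp (X ^ 2)) - ∑ m, P a m * C (g m b)).roots.toFinset := by
      intro t ht
      rw [Multiset.mem_toFinset, mem_roots hne0, IsRoot.def, eval_sub, eval_finsetSum, eval_finsetSum]
      have h2 := congrFun (congrFun (hy t ht) a) b
      rw [Matrix.mul_apply, Matrix.mul_apply] at h2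
      have h3 : ∀ m, eval t (C (g a m) * (P m b).comp (X ^ 2)) = g a m * D.x K r (t ^ 2) m b := fun m => by
        rw [eval_mul, eval_C, eval_comp, (hP m b).2, eval_pow, eval_X]
      have h4 : ∀ m, eval t (P a m * C (g m b)) = D.x K r t a m * g m b := fun m => by
        rw [eval_mul, eval_C, (hP a m).2]
      rw [Finset.sum_congr rfl fun m _ => h3 m, Finset.sum_congr rfl fun m _ => h4 m, h2, sub_self]
    have h2 := (Finset.card_le_card h1).trans (Multiset.toFinset_card_le _)
    have h3 := ((∑ m, C (g a m) * (P m b).comp (X ^ 2)) - ∑ m, P a m * C (g m b)).card_roots'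
    omega
  -- the linear coefficients
  let A : Matrix D.Idx D.Idx K := Matrix.of fun a b => (P a b).coeff 1
  have hA : A * g = 0 := by
    ext a b
    have h1 := congrArg (fun Q : K[X] => Q.coeff 1) (key a b)
    simp only [finsetSum_coeff, coeff_mul_C, coeff_C_mul] at h1
    have h2 : ∀ m, ((P m b).comp (X ^ 2)).coeff 1 = 0 := by
      intro m
      rw [← expand_eq_comp_X_pow, coeff_expand (by norm_num)]
      norm_num
    rw [Finset.sum_eq_zero fun m _ => by rw [h2, mul_zero]] at h1
    rw [Matrix.mul_apply]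
    exact h1.symm
  have hA0 : A = 0 := by
    have : A * g * g' = 0 := by rw [hA, zero_mul]
    rwa [Matrix.mul_assoc, hg, Matrix.mul_one] at this
  -- an entry of `A`
  have h5 : A (Sum.inl i) (Sum.inr ⟨_, hneg⟩) = ((D.coroot.getD r #[]).getD i.val 0 : ℤ) := by
    have h6 : P (Sum.inl i) (Sum.inr ⟨_, hneg⟩) = C (((D.coroot.getD r #[]).getD i.val 0 : ℤ) : K) * X := by
      have h7 : ∀ t ∈ S, eval t (P (Sum.inl i) (Sum.inr ⟨_, hneg⟩) - C (((D.coroot.getD r #[]).getD i.val 0 : ℤ) : K) * X) = 0 := by
        intro t _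
        rw [eval_sub, ← (hP _ _).2, Good.x_eq_xMat r hr]
        unfold ChevalleyDatum.xMat
        simp only [Matrix.of_apply]
        rw [if_neg (by
          intro h
          exact hne (congrArg Fin.val h)), if_pos trivial]
        simp
      by_contra hcon
      have hne0 := sub_ne_zero.2 hcon
      have h1 : S ⊆ (P (Sum.inl i) (Sum.inr ⟨_, hneg⟩) - C (((D.coroot.getD r #[]).getD i.val 0 : ℤ) : K) * X).roots.toFinset := by
        intro t ht
        rw [Multiset.mem_toFinset, mem_roots hne0, IsRoot.def]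
        exact h7 t ht
      have h2 := (Finset.card_le_card h1).trans (Multiset.toFinset_card_le _)
      have h3 := (P (Sum.inl i) (Sum.inr ⟨_, hneg⟩) - C (((D.coroot.getD r #[]).getD i.val 0 : ℤ) : K) * X).card_roots'
      have h4 : (P (Sum.inl i) (Sum.inr ⟨_, hneg⟩) - C (((D.coroot.getD r #[]).getD i.val 0 : ℤ) : K) * X).natDegree ≤ 3 :=
        (natDegree_sub_le _ _).trans (max_le (hP _ _).1 (((natDegree_C_mul_le _ _).trans natDegree_X_le).trans (by norm_num)))
      omega
    change (P (Sum.inl i) (Sum.inr ⟨_, hneg⟩)).coeff 1 = _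
    rw [h6, coeff_C_mul_X]
    simp
  rw [hA0] at h5
  exact hi h5.symm

end Cfsg.Agent.H134.Syl.PolyX
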