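import Cfsg.Agent.H378.Regular
import Cfsg.Agent.H378.LatCodim
import Cfsg.Agent.H134.Syl.PolyX

/-!
# The centraliser of `X` in `G₂(8)`, `F₄(8)` (helper134, for S2484 and S5760)

`θ` : pairwise orthogonal roots which span the root lattice up to index a power of 2.
A 3-element of `D.group F` (`|F| = 8`) which commutes with the root groups of `± θ i` is trivial.
-/

set_option autoImplicit false
set_option linter.unusedSectionVars false

namespace Cfsg.Agent.H134.Syl.CentX

open CoxeterSystem Subgroup Cfsg Cfsg.Lie Cfsg.Lie.ChevalleyDatum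
open Cfsg.Agent.ChevalleyStructure Cfsg.Agent.ChevalleyStructure.Elts Cfsg.Agent.ChevalleyStructure.CoxeterGeom
  Cfsg.Agent.ChevalleyStructure.CoxeterGeomTypes Cfsg.Agent.ChevalleyStructure.NPerm
open Cfsg.Agent.Tits.Roots Cfsg.Agent.Tits.Core Cfsg.Agent.Nodes.Reps Cfsg.Agent.Nodes.BNOf
  Cfsg.Agent.Nodes.RGDChev Cfsg.Agent.Nodes.Bruhat
open Cfsg.Agent.KFacts.RgdField Cfsg.Agent.KFacts.RgdChevCoord Cfsg.Agent.BpExc.TorCent Cfsg.Agent.BpExc.TorChev
open Cfsg.Agent.BpExc.Tow Cfsg.Agent.BpExc.TowChev Cfsg.Agent.BpExc.FamExt Cfsg.Agent.BpExc.FamUntw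
  Cfsg.Agent.BpExc.FamInst Cfsg.Agent.BpExc.LangFr Cfsg.Agent.BpExc.FamField Cfsg.Agent.BpExc.RowsUntw
open Cfsg.Agent.GpExc.Field (glMap emb coe_emb glMap_xG emb_injective coe_glMap)
open Cfsg.Agent.H378.TorDual Cfsg.Agent.H378.TorChar Cfsg.Agent.H378.TorFin Cfsg.Agent.H378.LatRoot
  Cfsg.Agent.H378.Regular

universe u

variable {D : ChevalleyDatum} {l : ℕ} {M : CoxeterMatrix (Fin l)} (hp : IsType D l M)

theorem locFin (F : Type u) [Field F] [Finite F] (r : ℕ) [Fact r.Prime] [CharP F r] : LocFin (AlgebraicClosure F) := by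
  intro S hS
  have := hS.to_subtype
  have h1 : FiniteDimensional F (IntermediateField.adjoin F S) :=
    IntermediateField.finiteDimensional_adjoin fun x _ => Algebra.IsIntegral.isIntegral x
  refine ⟨(IntermediateField.adjoin F S).toSubfield, ?_, IntermediateField.subset_adjoin _ _⟩
  exact Module.finite_of_finite F (M := ↥(IntermediateField.adjoin F S))

/-- the checks -/
structure Ok (D : ChevalleyDatum) (l : ℕ) {n : ℕ} (θ : Fin n → ℕ) (a : Fin n → ℤ) : Prop where
  l_le : l ≤ 8
  lt : ∀ i, θ i < D.nroots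
  neg_lt : ∀ i, D.neg (θ i) < D.nroots
  chk : ∀ i, PolyX.Chk D (θ i)
  chk' : ∀ i, PolyX.Chk D (D.neg (θ i))
  reg : ∀ s < D.nroots, ¬ (13 : ℤ) ∣ ∑ i, a i * TorusRange.pairing D (θ i) s
  span : ∀ j j' : Fin l, 2 * (if j' = j then (1 : ℤ) else 0) =
    ∑ i, TorusRange.pairing D (θ i) (D.simple j) * vec D l (θ i) j'

section

variable {k : Type u} [Field k]

theorem zpow_sum (ζ : k) (h : ζ ≠ 0) {ι : Type*} (S : Finset ι) (e : ι → ℤ) :
    ζ ^ ∑ i ∈ S, e i = ∏ i ∈ S, ζ ^ e i := by
  classical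
  induction S using Finset.induction_on with
  | empty => simp
  | insert i S hi ih => rw [Finset.sum_insert hi, Finset.prod_insert hi, zpow_add₀ h, ih]

/-- products of `h_r(c)` as matrices -/
theorem prod_hG (L : List (ℕ × k)) (hL : ∀ p ∈ L, p.1 < D.nroots ∧ p.2 ≠ 0) :
    (((L.map fun p => hG hp.inList p.1 p.2).prod : GL D.Idx k) : Matrix D.Idx D.Idx k) =
      Matrix.diagonal (Sum.elim (fun _ => (1 : k))
        (fun s : Fin D.nroots => (L.map fun p => p.2 ^ TorusRange.pairing D p.1 s).prod)) := by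
  induction L with
  | nil =>
    rw [List.map_nil, List.prod_nil, Units.val_one, ← Matrix.diagonal_one]
    congr 1
    funext i
    rcases i with i | s
    · rfl
    · simp
  | cons p L ih =>
    rw [List.map_cons, List.prod_cons, Units.val_mul, ih fun q hq => hL q (List.mem_cons_of_mem _ hq), coe_hG,
      allDiag hp p.1 (hL p (by simp)).1 p.2 (hL p (by simp)).2, Matrix.diagonal_mul_diagonal]
    congr 1
    funext i
    rcases i with i | s
    · simp
    · simp

/-- the scalar of a torus element is the diagonal entry -/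
theorem ch_entry {t : ↥(D.group k)} (ht : t ∈ TT D k) {s : ℕ} (hs : s < D.nroots) :
    ch hp (vec D l s) t = ((t : GL D.Idx k) : Matrix D.Idx D.Idx k) (Sum.inr ⟨s, hs⟩) (Sum.inr ⟨s, hs⟩) := by
  obtain ⟨c, hc, e, hact⟩ := exists_c hp (t := (t : GL D.Idx k)) ht
  rw [e, Matrix.diagonal_apply_eq, Sum.elim_inr]
  apply ch_eq hp hs ht
  apply Subtype.ext
  rw [Subgroup.coe_mul, Subgroup.coe_mul, Subgroup.coe_inv, coe_xc hp hs, coe_xc hp hs, hact s hs, mul_one]

/-- commuting with `x_{±r}` implies commuting with `h_r` -/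
theorem comm_hG {y : GL D.Idx k} {r : ℕ} (h1 : ∀ t, Commute y (xG hp.inList r t))
    (h2 : ∀ t, Commute y (xG hp.inList (D.neg r) t)) (t : k) : Commute y (hG hp.inList r t) := by
  have hn : ∀ t, Commute y (nG hp.inList r t) := fun t => by
    rw [nG_def]
    exact (h1 _).mul_right ((h2 _).mul_right (h1 _))
  rw [hG_def]
  exact (hn _).mul_right (hn _)

end

include hp in
/-- **The centraliser.** -/
theorem inner {F : Type u} [Field F] [Fintype F] [CharP F 2] (hF : Fintype.card F = 8) {n : ℕ} {θ : Fin n → ℕ}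
    {a : Fin n → ℤ} (ok : Ok D l θ a) {y : ↥(D.group F)}
    (h1 : ∀ i t, (y : GL D.Idx F) * xG hp.inList (θ i) t = xG hp.inList (θ i) t * (y : GL D.Idx F))
    (h2 : ∀ i t, (y : GL D.Idx F) * xG hp.inList (D.neg (θ i)) t = xG hp.inList (D.neg (θ i)) t * (y : GL D.Idx F)) {m : ℕ}
    (hm : y ^ 3 ^ m = 1) : y = 1 := by
  classical
  have h2p : Fact (Nat.Prime 2) := ⟨Nat.prime_two⟩
  let k := AlgebraicClosure F
  let f : F →+* k := algebraMap F k
  have hk : LocFin k := locFin F 2
  have hchar : CharP k 2 := charP_of_injective_algebraMap (algebraMap F (AlgebraicClosure F)).injective 2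
  let cs : CoxeterSystem M M.Group := M.toCoxeterSystem
  have hW := finite_W hp cs
  -- a primitive root of unity
  have h13 : NeZero ((13 : ℕ) : k) := by
    refine ⟨fun h => ?_⟩
    have := (CharP.cast_eq_zero_iff k 2 13).1 h
    omega
  obtain ⟨ζ, hζ⟩ := HasEnoughRootsOfUnity.exists_primitiveRoot k 13
  have hζ0 : ζ ≠ 0 := hζ.ne_zero (by norm_num)
  -- `y` in `D.group k`
  set z : ↥(D.group k) := emb hp.inList f y with hz
  have hval : ∀ r, PolyX.Chk D r → r < D.nroots →
      (∀ t, (y : GL D.Idx F) * xG hp.inList r t = xG hp.inList r t * (y : GL D.Idx F)) →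
      ∀ t, Commute (z : GL D.Idx k) (xG hp.inList r t) := by
    intro r hc hr h t
    apply Units.ext
    rw [Units.val_mul, Units.val_mul, coe_xG]
    refine PolyX.comm_of_card hr hc (Finset.univ.image f) ?_ _ ?_ t
    · rw [Finset.card_image_of_injective _ f.injective, Finset.card_univ, hF]
      norm_num
    · intro t ht
      obtain ⟨u, -, rfl⟩ := Finset.mem_image.1 ht
      have h3 := congrArg (fun g => ((glMap D f g : GL D.Idx k) : Matrix D.Idx D.Idx k)) (h u)
      simp only [map_mul, Units.val_mul, glMap_xG hp.inList, coe_xG] at h3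
      exact h3
  have hz1 := fun i => hval (θ i) (ok.chk i) (ok.lt i) (h1 i)
  have hz2 := fun i => hval (D.neg (θ i)) (ok.chk' i) (ok.neg_lt i) (h2 i)
  -- the regular element
  let L : List (ℕ × k) := (List.finRange n).map fun i => (θ i, ζ ^ a i)
  have hL : ∀ p ∈ L, p.1 < D.nroots ∧ p.2 ≠ 0 := by
    intro p hp'
    obtain ⟨i, -, rfl⟩ := List.mem_map.1 hp'
    exact ⟨ok.lt i, zpow_ne_zero _ hζ0⟩
  let t₀ : GL D.Idx k := (L.map fun p => hG hp.inList p.1 p.2).prod
  have ht₀ : t₀ ∈ D.diagonalSubgroup k := by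
    refine list_prod_mem fun g hg => ?_
    obtain ⟨p, hp', rfl⟩ := List.mem_map.1 hg
    exact hG_mem_diagonal hp.inList (hL p hp').1 (hL p hp').2
  have ht₀' : t₀ ∈ D.group k := by
    refine list_prod_mem fun g hg => ?_
    obtain ⟨p, hp', rfl⟩ := List.mem_map.1 hg
    exact hG_mem_group hp.inList _ _
  let t : ↥(D.group k) := ⟨t₀, ht₀'⟩
  have ht : t ∈ TT D k := ht₀
  have hent : ∀ s : Fin D.nroots, (L.map fun p => p.2 ^ TorusRange.pairing D p.1 s).prod =
      ζ ^ ∑ i, a i * TorusRange.pairing D (θ i) s := by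
    intro s
    rw [List.map_map, zpow_sum ζ hζ0, Fin.prod_univ_def]
    congr 1
    apply List.map_congr_left
    intro i _
    simp only [Function.comp_apply]
    rw [← zpow_mul]
  have htval : ((t : GL D.Idx k) : Matrix D.Idx D.Idx k) = Matrix.diagonal (Sum.elim (fun _ => (1 : k))
      (fun s : Fin D.nroots => ζ ^ ∑ i, a i * TorusRange.pairing D (θ i) s)) := by
    have := prod_hG hp L hL
    simp only [hent] at this
    exact this
  have hch : ∀ s, (hs : s < D.nroots) → ch hp (vec D l s) t = ζ ^ ∑ i, a i * TorusRange.pairing D (θ i) s := by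
    intro s hs
    rw [ch_entry hp ht hs, htval, Matrix.diagonal_apply_eq, Sum.elim_inr]
  have ht13 : t ^ 13 = 1 := by
    apply Subtype.ext
    apply Units.ext
    rw [SubmonoidClass.coe_pow, Units.val_pow_eq_pow_val, htval, Matrix.diagonal_pow]
    change _ = (1 : Matrix D.Idx D.Idx k)
    rw [← Matrix.diagonal_one]
    congr 1
    funext i
    rcases i with i | s
    · simp
    · simp only [Pi.pow_apply, Sum.elim_inr]
      rw [← zpow_natCast, ← zpow_mul, mul_comm, zpow_mul, zpow_natCast, hζ.pow_eq_one, one_zpow]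
  have hcomm : z * t = t * z := by
    apply Subtype.ext
    change Commute (z : GL D.Idx k) t₀
    refine Commute.list_prod_right _ _ fun g hg => ?_
    obtain ⟨p, hp', rfl⟩ := List.mem_map.1 hg
    obtain ⟨i, -, rfl⟩ := List.mem_map.1 hp'
    exact comm_hG hp (hz1 i) (hz2 i) _
  have hzT : z ∈ TT D k := by
    refine mem_TT_of_comm hp cs ht (ℓ := 13) (by norm_num) ?_ ht13 ?_ hcomm hk 2
    · intro hd
      have h5 := Cfsg.Agent.H378.LatCodim.le_of_dvd_card cs hp.isCartan (by norm_num) hd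
      have := ok.l_le
      omega
    · intro b hb
      obtain ⟨s, hs, rfl⟩ := (isRoot_iff hp cs b).1 hb
      rw [hch s hs]
      intro h
      exact ok.reg s hs ((hζ.zpow_eq_one_iff_dvd _).1 h)
  -- `z ^ 2 = 1`
  have hθ : ∀ i, tchar hp ⟨z, hzT⟩ (Multiplicative.ofAdd (vec D l (θ i))) = 1 := by
    intro i
    apply Units.ext
    rw [tchar_apply hp cs hk 2 ⟨z, hzT⟩ (isRoot_vec hp cs (ok.lt i)), Units.val_one]
    apply ch_eq hp (ok.lt i) hzT
    rw [mul_inv_eq_iff_eq_mul]
    apply Subtype.ext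
    rw [Subgroup.coe_mul, Subgroup.coe_mul, coe_xc hp (ok.lt i)]
    exact hz1 i 1
  have hz2' : (⟨z, hzT⟩ : ↥(TT D k)) ^ 2 = 1 := by
    apply tchar_injective hp
    rw [map_pow, map_one]
    refine ext_sr fun j => ?_
    have e : (2 : ℤ) • (sr j : Fin l → ℤ) = ∑ i, TorusRange.pairing D (θ i) (D.simple j) • vec D l (θ i) := by
      funext j'
      rw [Finset.sum_apply]
      have := ok.span j j'
      simp only [Pi.smul_apply, smul_eq_mul]
      rw [← this]
      congr 1
      by_cases hj : j' = j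
      · subst hj
        rw [if_pos rfl, sr_self]
      · rw [if_neg hj, sr_ne hj]
    have e2 : (tchar hp ⟨z, hzT⟩ ^ 2) (Multiplicative.ofAdd (sr j)) =
        tchar hp ⟨z, hzT⟩ (Multiplicative.ofAdd ((2 : ℤ) • (sr j : Fin l → ℤ))) := by
      rw [ofAdd_zsmul, map_zpow]
      rfl
    rw [e2, e, ofAdd_sum, map_prod]
    refine Finset.prod_eq_one fun i _ => ?_
    rw [ofAdd_zsmul, map_zpow, hθ, one_zpow]
  have hz3 : z ^ 2 = 1 := congrArg Subtype.val hz2'
  have hz4 : z ^ 3 ^ m = 1 := by rw [hz, ← map_pow, hm, map_one]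
  have hz5 : z = 1 := by
    have h5 : orderOf z ∣ 3 ^ m := orderOf_dvd_of_pow_eq_one hz4
    have h6 : orderOf z ∣ 2 := orderOf_dvd_of_pow_eq_one hz3
    have h7 : orderOf z ∣ 1 := by
      rw [← Nat.Coprime.gcd_eq_one (m := 3 ^ m) (n := 2) (Nat.Coprime.pow_left _ (by norm_num))]
      exact Nat.dvd_gcd h5 h6
    exact orderOf_eq_one_iff.1 (Nat.dvd_one.1 h7)
  exact emb_injective hp.inList f (by rw [← hz, hz5, map_one])

/-! ### the data -/

/-- orthogonal roots of `G₂` -/
def θG : Fin 2 → ℕ := ![11, 7]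

theorem okG : Ok chevG2 2 θG ![1, 3] where
  l_le := by norm_num
  lt := by decide +kernel
  neg_lt := by decide +kernel
  chk := by decide +kernel
  chk' := by decide +kernel
  reg := by decide +kernel
  span := by decide +kernel

/-- orthogonal long roots of `F₄` -/
def θF : Fin 4 → ℕ := ![47, 25, 41, 30]

theorem okF : Ok chevF4 4 θF ![1, 2, 3, 5] where
  l_le := by norm_num
  lt := by decide +kernel
  neg_lt := by decide +kernel
  chk := by decide +kernel
  chk' := by decide +kernel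
  reg := by decide +kernel
  span := by decide +kernel

end Cfsg.Agent.H134.Syl.CentX
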