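import Mathlib

/-!
# Lists of the elements of a subgroup generated by a chain of elements of order 3 (helper134)

`Lst S L` : `L` lists the elements of `closure S` without repetition; `Lst.step` : one more generator of order 3.
-/

set_option autoImplicit false

namespace Cfsg.Agent.H134.Syl

open Subgroup

variable {G : Type*} [Group G]

/-- `L` lists the elements of the subgroup generated by `S`, without repetition -/
structure Lst (S : Set G) (L : List G) : Prop where
  mem : ∀ y, y ∈ closure S ↔ y ∈ L
  nodup : L.Nodup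

theorem Lst.nil : Lst (∅ : Set G) [1] where
  mem y := by simp
  nodup := List.nodup_singleton _

theorem Lst.card {S : Set G} {L : List G} (h : Lst S L) : Nat.card ↥(closure S) = L.length := by
  classical
  have e : ↥(closure S) ≃ {y // y ∈ L.toFinset} := Equiv.subtypeEquivRight fun y => by rw [h.mem, List.mem_toFinset]
  rw [← List.toFinset_card_of_nodup h.nodup, Nat.card_congr e, Nat.card_eq_fintype_card, Fintype.card_coe]

theorem conj_mem_of_gen {S : Set G} {g : G} (hn : ∀ s ∈ S, g * s * g⁻¹ ∈ closure S) {y : G} (hy : y ∈ closure S) :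
    g * y * g⁻¹ ∈ closure S := by
  induction hy using closure_induction with
  | mem s hs => exact hn s hs
  | one => simp [one_mem]
  | mul a b _ _ ha hb =>
    have : g * (a * b) * g⁻¹ = (g * a * g⁻¹) * (g * b * g⁻¹) := by group
    rw [this]
    exact mul_mem ha hb
  | inv a _ ha =>
    have : g * a⁻¹ * g⁻¹ = (g * a * g⁻¹)⁻¹ := by group
    rw [this]
    exact inv_mem ha

theorem pow_conj_mem {S : Set G} {g : G} (hn : ∀ s ∈ S, g * s * g⁻¹ ∈ closure S) (i : ℕ) {y : G}
    (hy : y ∈ closure S) : g ^ i * y * (g ^ i)⁻¹ ∈ closure S := by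
  induction i with
  | zero => simpa using hy
  | succ i ih =>
    have : g ^ (i + 1) * y * (g ^ (i + 1))⁻¹ = g * (g ^ i * y * (g ^ i)⁻¹) * g⁻¹ := by
      rw [pow_succ']; group
    rw [this]
    exact conj_mem_of_gen hn ih

/-- the elements `g ^ i h` -/
def ext (g : G) (L : List G) : List G := L ++ (L.map (fun y => g * y) ++ L.map fun y => g * (g * y))

theorem mem_step {S : Set G} {L : List G} (h : Lst S L) {g : G} (h3 : g * (g * g) = 1)
    (hn : ∀ s ∈ S, g * s * g⁻¹ ∈ closure S) (y : G) : y ∈ closure (insert g S) ↔ y ∈ ext g L := by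
  have h3' : g ^ 3 = 1 := by rw [pow_succ, pow_two, mul_assoc]; exact h3
  have hinv : g⁻¹ = g ^ 2 := by
    rw [inv_eq_iff_mul_eq_one, ← pow_succ', h3']
  have hconj' : ∀ (i : ℕ) {y : G}, y ∈ closure S → (g ^ i)⁻¹ * y * g ^ i ∈ closure S := by
    intro i y hy
    have e : (g ^ i)⁻¹ = g ^ (2 * i) := by rw [← inv_pow, hinv, ← pow_mul]
    have h4 := pow_conj_mem hn (2 * i) hy
    have e2 : (g ^ (2 * i))⁻¹ = g ^ i := by rw [← e, inv_inv]
    rw [e2, ← e] at h4
    exact h4
  let T : Subgroup G :=
    { carrier := {y | ∃ i : ℕ, ∃ z ∈ closure S, y = g ^ i * z}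
      one_mem' := ⟨0, 1, one_mem _, by simp⟩
      mul_mem' := by
        rintro _ _ ⟨i, z, hz, rfl⟩ ⟨j, w, hw, rfl⟩
        refine ⟨i + j, ((g ^ j)⁻¹ * z * g ^ j) * w, mul_mem (hconj' j hz) hw, ?_⟩
        rw [pow_add]
        group
      inv_mem' := by
        rintro _ ⟨i, z, hz, rfl⟩
        refine ⟨2 * i, g ^ i * z⁻¹ * (g ^ i)⁻¹, pow_conj_mem hn i (inv_mem hz), ?_⟩
        have e : g ^ (2 * i) = (g ^ i)⁻¹ := by rw [← inv_pow, hinv, ← pow_mul]
        rw [e]
        group }
  have hT : closure (insert g S) ≤ T := by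
    rw [closure_le]
    intro y hy
    rcases Set.mem_insert_iff.1 hy with rfl | hy
    · exact ⟨1, 1, one_mem _, by simp⟩
    · exact ⟨0, y, subset_closure hy, by simp⟩
  have hle : closure S ≤ closure (insert g S) := closure_mono (Set.subset_insert _ _)
  have hg : g ∈ closure (insert g S) := subset_closure (Set.mem_insert _ _)
  constructor
  · intro hy
    obtain ⟨i, z, hz, rfl⟩ := hT hy
    have hz' := (h.mem z).1 hz
    have hi : g ^ i = g ^ (i % 3) := by
      conv_lhs => rw [← Nat.div_add_mod i 3, pow_add, pow_mul, h3', one_pow, one_mul]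
    rw [hi]
    have hlt := Nat.mod_lt i (show 0 < 3 by norm_num)
    unfold ext
    rw [List.mem_append, List.mem_append, List.mem_map, List.mem_map]
    interval_cases i % 3
    · left; simpa using hz'
    · right; left; exact ⟨z, hz', by rw [pow_one]⟩
    · right; right; exact ⟨z, hz', by rw [pow_two, mul_assoc]⟩
  · intro hy
    unfold ext at hy
    rw [List.mem_append, List.mem_append, List.mem_map, List.mem_map] at hy
    rcases hy with hy | ⟨z, hz, rfl⟩ | ⟨z, hz, rfl⟩
    · exact hle ((h.mem y).2 hy)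
    · exact mul_mem hg (hle ((h.mem z).2 hz))
    · exact mul_mem hg (mul_mem hg (hle ((h.mem z).2 hz)))

theorem Lst.step {S : Set G} {L : List G} (h : Lst S L) {g : G} (h3 : g * (g * g) = 1)
    (hn : ∀ s ∈ S, g * s * g⁻¹ ∈ closure S) (hg : g ∉ L) : Lst (insert g S) (ext g L) where
  mem := mem_step h h3 hn
  nodup := by
    have hgS : g ∉ closure S := fun h4 => hg ((h.mem g).1 h4)
    have key : ∀ a ∈ L, ∀ b ∈ L, a ≠ g * b := by
      intro a ha b hb e
      apply hgS
      have : g = a * b⁻¹ := by rw [e]; group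
      rw [this]
      exact mul_mem ((h.mem a).2 ha) (inv_mem ((h.mem b).2 hb))
    have key2 : ∀ a ∈ L, ∀ b ∈ L, a ≠ g * (g * b) := by
      intro a ha b hb e
      apply hgS
      have h4 : g⁻¹ = g * g := by rw [inv_eq_iff_mul_eq_one]; exact h3
      have : g = (a * b⁻¹)⁻¹ := by
        rw [e]
        have : g * (g * b) * b⁻¹ = g * g := by group
        rw [this, ← h4, inv_inv]
      rw [this]
      exact inv_mem (mul_mem ((h.mem a).2 ha) (inv_mem ((h.mem b).2 hb)))
    unfold ext
    refine List.Nodup.append h.nodup (List.Nodup.append ?_ ?_ ?_) ?_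
    · exact h.nodup.map fun a b e => mul_left_cancel e
    · exact h.nodup.map fun a b e => mul_left_cancel (mul_left_cancel e)
    · intro y hy hy'
      obtain ⟨a, ha, rfl⟩ := List.mem_map.1 hy
      obtain ⟨b, hb, e⟩ := List.mem_map.1 hy'
      exact key a ha b hb (mul_left_cancel e).symm
    · intro y hy hy'
      rcases List.mem_append.1 hy' with h1 | h1
      · obtain ⟨b, hb, e⟩ := List.mem_map.1 h1
        exact key y hy b hb e.symm
      · obtain ⟨b, hb, e⟩ := List.mem_map.1 h1
        exact key2 y hy b hb e.symm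

theorem length_ext (g : G) (L : List G) : (ext g L).length = 3 * L.length := by
  unfold ext
  simp only [List.length_append, List.length_map]
  ring

end Cfsg.Agent.H134.Syl
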