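import Cfsg.Agent.H134.Syl.Frame
import Cfsg.Agent.H134.Syl.CentX
import Cfsg.Agent.H531.RMChev
import Cfsg.Agent.CpAut.RgdUntw
import Cfsg.Agent.TitsThree.KExcBase

/-!
# `SL₂(8) ^ k` in a Chevalley group over a field with 8 elements (helper134, for S2484 and S5760)
-/

set_option autoImplicit false
set_option linter.unusedSectionVars false

namespace Cfsg.Agent.H134.Syl.Ch8

open Cfsg.Lie Cfsg.Agent.ChevalleyStructure Cfsg.Agent.ChevalleyStructure.Elts
open Cfsg.Agent.H903.SylMeet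
open Cfsg.Agent.H134.Syl.SL8 (τ τ_apply τ_cube φ₀ φ₀_apply)
open Cfsg.Agent.CpAut.RgdUntw (fld_coe fld_mul fld_one fld_pow)

local notation "chf" => Cfsg.Agent.CpAut.RgdUntw.fld

variable {D : ChevalleyDatum} (hD : InList D) {n : ℕ} {θ : Fin n → ℕ} {F : Type} [Field F]

/-- the roots `θ i` are pairwise strongly orthogonal -/
def Orth (D : ChevalleyDatum) {n : ℕ} (θ : Fin n → ℕ) : Prop :=
  (∀ i, θ i < D.nroots) ∧ (∀ i, D.neg (θ i) < D.nroots) ∧
    ∀ i j, i ≠ j → ∀ r ∈ [θ i, D.neg (θ i)], ∀ s ∈ [θ j, D.neg (θ j)], s ≠ r ∧ s ≠ D.neg r ∧ D.commTerms r s = []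

instance (D : ChevalleyDatum) {n : ℕ} (θ : Fin n → ℕ) : Decidable (Orth D θ) := by unfold Orth; infer_instance

local notation "SL" => Matrix.SpecialLinearGroup (Fin 2) F

/-- the factors -/
noncomputable def ri (ho : Orth D θ) (i : Fin n) : SL →* ↥(D.group F) := H531.RMChev.psi hD (ho.1 i) F

theorem ri_up (ho : Orth D θ) (i : Fin n) (t : F) :
    ((ri hD ho i (SL2Hom.up t) : ↥(D.group F)) : GL D.Idx F) = xG hD (θ i) t := H531.RMChev.psi_up hD _ t

theorem ri_lo (ho : Orth D θ) (i : Fin n) (t : F) :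
    ((ri hD ho i (SL2Hom.lo t) : ↥(D.group F)) : GL D.Idx F) = xG hD (D.neg (θ i)) t := H531.RMChev.psi_lo hD _ t

theorem sl_induct {p : SL → Prop} (h1 : p 1) (hu : ∀ t, p (SL2Hom.up t)) (hl : ∀ t, p (SL2Hom.lo t))
    (hm : ∀ g h, p g → p h → p (g * h)) (hi : ∀ g, p g → p g⁻¹) (g : SL) : p g := by
  let U : Subgroup SL :=
    { carrier := {g | p g}
      one_mem' := h1
      mul_mem' := fun ha hb => hm _ _ ha hb
      inv_mem' := fun ha => hi _ ha }
  refine (Subgroup.closure_le U).2 ?_ (SL2Hom.mem_closure_SL2 g)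
  rintro x (⟨t, rfl⟩ | ⟨t, rfl⟩)
  · exact hu t
  · exact hl t

theorem ri_comm (ho : Orth D θ) {i j : Fin n} (hij : i ≠ j) (x y : SL) : Commute (ri hD ho i x) (ri hD ho j y) := by
  have hc : ∀ r ∈ [θ i, D.neg (θ i)], ∀ s ∈ [θ j, D.neg (θ j)], ∀ a b : F, xG hD r a * xG hD s b = xG hD s b * xG hD r a := by
    intro r hr s hs a b
    obtain ⟨h1, h2, h3⟩ := ho.2.2 i j hij r hr s hs
    have hr2 : r < D.nroots := by
      rcases List.mem_cons.1 hr with rfl | hr
      · exact ho.1 i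
      · rw [List.mem_singleton.1 hr]; exact ho.2.1 i
    have hs2 : s < D.nroots := by
      rcases List.mem_cons.1 hs with rfl | hs
      · exact ho.1 j
      · rw [List.mem_singleton.1 hs]; exact ho.2.1 j
    exact TitsThree.KExcBase.comm_nil hD hr2 hs2 h1 h2 h3 a b
  have hy : ∀ r ∈ [θ i, D.neg (θ i)], ∀ a y, Commute (xG hD r a) ((ri hD ho j y : ↥(D.group F)) : GL D.Idx F) := by
    intro r hr a y
    induction y using sl_induct with
    | h1 => rw [map_one]; exact Commute.one_right _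
    | hu t => rw [ri_up]; exact hc r hr _ (by simp) a t
    | hl t => rw [ri_lo]; exact hc r hr _ (by simp) a t
    | hm g h hg hh => rw [map_mul, Subgroup.coe_mul]; exact hg.mul_right hh
    | hi g hg => rw [map_inv, Subgroup.coe_inv]; exact hg.inv_right
  have hx : Commute ((ri hD ho i x : ↥(D.group F)) : GL D.Idx F) ((ri hD ho j y : ↥(D.group F)) : GL D.Idx F) := by
    induction x using sl_induct with
    | h1 => rw [map_one]; exact Commute.one_left _
    | hu t => rw [ri_up]; exact hy _ (by simp) t y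
    | hl t => rw [ri_lo]; exact hy _ (by simp) t y
    | hm g h hg hh => rw [map_mul, Subgroup.coe_mul]; exact hg.mul_left hh
    | hi g hg => rw [map_inv, Subgroup.coe_inv]; exact hg.inv_left
  exact Subtype.ext hx

/-- the homomorphism -/
noncomputable def rh (F : Type) [Field F] (ho : Orth D θ) : (Fin n → Matrix.SpecialLinearGroup (Fin 2) F) →* ↥(D.group F) :=
  MonoidHom.noncommPiCoprod (fun i => ri (F := F) hD ho i) fun _ _ hij x y => ri_comm hD ho hij x y

theorem rh_single (ho : Orth D θ) (i : Fin n) (g : SL) : rh hD F ho (Pi.mulSingle i g) = ri hD ho i g :=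
  MonoidHom.noncommPiCoprod_mulSingle (fun i => ri (F := F) hD ho i) i g

theorem rh_injective [Fintype F] (hF : Fintype.card F = 8) (ho : Orth D θ) : Function.Injective (rh hD F ho) := by
  have hs := SL8.simple (F := F) hF
  apply injective_of_single (SL8.not_comm hF)
  intro i
  simp only [rh_single]
  rw [← MonoidHom.ker_eq_bot_iff]
  rcases (inferInstance : (ri (F := F) hD ho i).ker.Normal).eq_bot_or_eq_top with h | h
  · exact h
  · exfalso
    have h1 : SL2Hom.up (1 : F) ∈ (ri (F := F) hD ho i).ker := h ▸ Subgroup.mem_top _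
    rw [MonoidHom.mem_ker] at h1
    have h2 := congrArg Subtype.val h1
    rw [ri_up] at h2
    exact one_ne_zero ((xG_eq_one_iff hD (ho.1 i) 1).1 h2)

/-- checking the action on the generators -/
theorem act_of_gen (ho : Orth D θ) {y : MulAut ↥(D.group F)} {σ : Equiv.Perm (Fin n)} {α : MulAut SL}
    (h1 : ∀ i t, y (ri hD ho i (SL2Hom.up t)) = ri hD ho (σ i) (α (SL2Hom.up t)))
    (h2 : ∀ i t, y (ri hD ho i (SL2Hom.lo t)) = ri hD ho (σ i) (α (SL2Hom.lo t))) :
    Act (rh hD F ho) y σ fun _ => α := by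
  have key : ∀ i g, y (ri hD ho i g) = ri hD ho (σ i) (α g) := by
    intro i g
    induction g using sl_induct with
    | h1 => rw [map_one, map_one, map_one, map_one]
    | hu t => exact h1 i t
    | hl t => exact h2 i t
    | hm g h hg hh => rw [map_mul, map_mul, hg, hh, map_mul, map_mul]
    | hi g hg => rw [map_inv, map_inv, hg, map_inv, map_inv]
  have hext : y.toMonoidHom.comp (rh hD F ho) =
      (rh hD F ho).comp (MonoidHom.mk' (fun f j => α (f (σ.symm j))) (by intro f g; ext j; simp)) := by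
    apply MonoidHom.pi_ext
    intro i g
    change y (rh hD F ho (Pi.mulSingle i g)) = rh hD F ho fun j => α ((Pi.mulSingle i g : Fin n → SL) (σ.symm j))
    have e : (fun j => α ((Pi.mulSingle i g : Fin n → SL) (σ.symm j))) = Pi.mulSingle (σ i) (α g) := by
      funext j
      by_cases hj : j = σ i
      · subst hj
        rw [Pi.mulSingle_eq_same, Equiv.symm_apply_apply, Pi.mulSingle_eq_same]
      · have h3 : σ.symm j ≠ i := by
          intro h
          apply hj
          rw [← h, Equiv.apply_symm_apply]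
        rw [Pi.mulSingle_eq_of_ne hj, Pi.mulSingle_eq_of_ne h3, map_one]
    rw [e, rh_single, rh_single, key]
  intro f
  exact DFunLike.congr_fun hext f

/-! ### the field automorphism -/

/-- a root element -/
def xq (r : ℕ) (t : F) : ↥(D.group F) := ⟨xG hD r t, xG_mem_group hD r t⟩

theorem fld_xq (s : F ≃+* F) (r : ℕ) (t : F) : chf D s (xq hD r t) = xq hD r (s t) := by
  apply Subtype.ext
  apply Units.ext
  rw [fld_coe]
  exact ChevStructure.FieldMap.x_map D (s : F →+* F) r t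

theorem ri_up' (ho : Orth D θ) (i : Fin n) (t : F) : ri hD ho i (SL2Hom.up t) = xq hD (θ i) t :=
  Subtype.ext (ri_up hD ho i t)

theorem ri_lo' (ho : Orth D θ) (i : Fin n) (t : F) : ri hD ho i (SL2Hom.lo t) = xq hD (D.neg (θ i)) t :=
  Subtype.ext (ri_lo hD ho i t)

section two

variable [Fintype F] [CharP F 2]

theorem φ₀_up (t : F) : φ₀ (SL2Hom.up t) = SL2Hom.up (t ^ 2) := by
  apply SL8.ext2
  · rw [φ₀_apply]; simp [SL2Hom.up]
  · rw [φ₀_apply]; simp [SL2Hom.up]
  · rw [φ₀_apply]; simp [SL2Hom.up]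
  · rw [φ₀_apply]; simp [SL2Hom.up]

theorem φ₀_lo (t : F) : φ₀ (SL2Hom.lo t) = SL2Hom.lo (t ^ 2) := by
  apply SL8.ext2
  · rw [φ₀_apply]; simp [SL2Hom.lo]
  · rw [φ₀_apply]; simp [SL2Hom.lo]
  · rw [φ₀_apply]; simp [SL2Hom.lo]
  · rw [φ₀_apply]; simp [SL2Hom.lo]

variable (D F) in
/-- the field automorphism -/
noncomputable def ph : MulAut ↥(D.group F) := chf D τ

theorem ph_xq (r : ℕ) (t : F) : ph D F (xq hD r t) = xq hD r (t ^ 2) := fld_xq hD τ r t

theorem ph_cube (hF : Fintype.card F = 8) : ph D F ^ 3 = 1 := by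
  unfold ph
  rw [← fld_pow, τ_cube hF, fld_one]

theorem act_ph (ho : Orth D θ) : Act (rh hD F ho) (ph D F) 1 fun _ => φ₀ := by
  apply act_of_gen
  · intro i t
    rw [ri_up', ph_xq, φ₀_up, Equiv.Perm.one_apply, ri_up']
  · intro i t
    rw [ri_lo', ph_xq, φ₀_lo, Equiv.Perm.one_apply, ri_lo']

/-- no inner automorphism times Frobenius fixes a root group elementwise -/
theorem no_frob (hF : Fintype.card F = 8) {r : ℕ} (hr : r < D.nroots) (hc : PolyX.Chk D r)
    (hneg : D.negIdx.getD r 0 < D.nroots) (hne : D.negIdx.getD r 0 ≠ r) {i : Fin D.rank}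
    (hi : (((D.coroot.getD r #[]).getD i.val 0 : ℤ) : F) ≠ 0) (g : ↥(D.group F))
    (hy : ∀ t : F, g * xq hD r (t ^ 2) = xq hD r t * g) : False := by
  refine PolyX.not_frob (K := F) hr hc Finset.univ (by rw [Finset.card_univ, hF]; norm_num)
    (g := ((g : GL D.Idx F) : Matrix D.Idx D.Idx F)) (g' := (((g : GL D.Idx F)⁻¹ : GL D.Idx F) : Matrix D.Idx D.Idx F))
    (Units.mul_inv _) hneg hne hi ?_
  intro t _
  exact congrArg (fun z : ↥(D.group F) => ((z : GL D.Idx F) : Matrix D.Idx D.Idx F)) (hy t)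

end two

/-! ### 3-elements of the automorphism group -/

section out

variable {T : Type} [Group T] [Finite T]

theorem exists_coset {φ : MulAut T} (hφ3 : φ ^ 3 = 1) (hφ : φ ∉ Cfsg.Inn T) (ho : Nat.card (Cfsg.Out T) ∣ 6)
    {P : Subgroup (MulAut T)} (hP : IsPGroup 3 P) (hφP : φ ∈ P) {y : MulAut T} (hy : y ∈ P) :
    ∃ g : T, y = MulAut.conj g ∨ y = MulAut.conj g * φ ∨ y = MulAut.conj g * φ ^ 2 := by
  have h3p : Fact (Nat.Prime 3) := ⟨Nat.prime_three⟩
  let π : MulAut T →* Cfsg.Out T := QuotientGroup.mk' (Cfsg.Inn T)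
  have h1 : orderOf (π φ) = 3 := orderOf_eq_prime (by rw [← map_pow, hφ3, map_one]) (by
    intro h
    exact hφ ((QuotientGroup.eq_one_iff φ).1 h))
  let P' := P.map π
  have hP' : IsPGroup 3 P' := hP.map π
  obtain ⟨k, hk⟩ := hP'.exists_card_eq
  have h2 : Nat.card P' ∣ 6 := (Subgroup.card_subgroup_dvd_card P').trans ho
  have h3 : Nat.card P' ≤ 3 := by
    have h4 : Nat.Coprime (Nat.card P') 2 := by
      rw [hk]
      exact Nat.Coprime.pow_left _ (by norm_num)
    have h5 : Nat.card P' ∣ 3 * 2 := h2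
    exact Nat.le_of_dvd (by norm_num) (h4.dvd_of_dvd_mul_right h5)
  have h4 : Subgroup.zpowers (π φ) = P' := by
    apply Subgroup.eq_of_le_of_card_ge
    · rw [Subgroup.zpowers_le]
      exact Subgroup.mem_map_of_mem π hφP
    · rw [Nat.card_zpowers, h1]
      exact h3
  have h5 : π y ∈ Subgroup.zpowers (π φ) := h4 ▸ Subgroup.mem_map_of_mem π hy
  rw [← mem_powers_iff_mem_zpowers] at h5
  obtain ⟨m, hm⟩ := h5
  have hm' : π φ ^ m = π y := hm
  have h6 : y * (φ ^ m)⁻¹ ∈ Cfsg.Inn T := by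
    rw [← QuotientGroup.eq_one_iff]
    change π (y * (φ ^ m)⁻¹) = 1
    rw [map_mul, map_inv, map_pow, hm', mul_inv_cancel]
  obtain ⟨g, hg⟩ := h6
  refine ⟨g, ?_⟩
  have h7 : y = MulAut.conj g * φ ^ m := by
    rw [hg]
    group
  have h8 : φ ^ m = φ ^ (m % 3) := by
    conv_lhs => rw [← Nat.div_add_mod m 3, pow_add, pow_mul, hφ3, one_pow, one_mul]
  rw [h8] at h7
  rcases (by omega : m % 3 = 0 ∨ m % 3 = 1 ∨ m % 3 = 2) with h | h | h
  · left
    rw [h7, h, pow_zero, mul_one]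
  · right; left
    rw [h7, h, pow_one]
  · right; right
    rw [h7, h]

end out

section cent

variable [Fintype F] [CharP F 2]

/-- the checks for the outer elements -/
structure Fr (D : ChevalleyDatum) (r : ℕ) (i : Fin D.rank) : Prop where
  lt : r < D.nroots
  chk : PolyX.Chk D r
  neg : D.negIdx.getD r 0 < D.nroots
  ne : D.negIdx.getD r 0 ≠ r
  odd : ¬ (2 : ℤ) ∣ (D.coroot.getD r #[]).getD i.val 0

variable {i₀ : Fin n} {i₁ : Fin D.rank} (hfr : Fr D (θ i₀) i₁)

include hfr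

theorem no_frob' (hF : Fintype.card F = 8) (g : ↥(D.group F))
    (hy : ∀ t : F, g * xq hD (θ i₀) (t ^ 2) = xq hD (θ i₀) t * g) : False := by
  refine no_frob hD hF hfr.lt hfr.chk hfr.neg hfr.ne (i := i₁) ?_ g hy
  intro h
  exact hfr.odd ((CharP.intCast_eq_zero_iff F 2 _).1 h)

include hD in
theorem ph_not_inn (hF : Fintype.card F = 8) : ph D F ∉ Cfsg.Inn ↥(D.group F) := by
  rintro ⟨g, hg⟩
  refine no_frob' hD hfr hF g⁻¹ fun t => ?_
  have h1 := ph_xq (F := F) hD (θ i₀) t
  rw [← hg, MulAut.conj_apply] at h1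
  rw [← h1]
  group

/-- **The centraliser of `X`.** -/
theorem cent {l : ℕ} {M : CoxeterMatrix (Fin l)} (hp : Nodes.RGDChev.IsType D l M) {a : Fin n → ℤ}
    (ok : CentX.Ok D l θ a) (ho : Orth D θ) (hF : Fintype.card F = 8) [IsSimpleGroup ↥(D.group F)]
    (hT : ¬ IsMulCommutative ↥(D.group F)) (hout : Nat.card (Cfsg.Out ↥(D.group F)) ∣ 6)
    {P : Subgroup (MulAut ↥(D.group F))} (hP : IsPGroup 3 P) (hφ : ph D F ∈ P) (y : MulAut ↥(D.group F)) (hy : y ∈ P)
    (h : ∀ f, y (rh hD F ho f) = rh hD F ho f) : y = 1 := by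
  have hx : ∀ i t, y (xq hD (θ i) t) = xq hD (θ i) t := by
    intro i t
    have := h (Pi.mulSingle i (SL2Hom.up t))
    rwa [rh_single, ri_up'] at this
  have hx' : ∀ i t, y (xq hD (D.neg (θ i)) t) = xq hD (D.neg (θ i)) t := by
    intro i t
    have := h (Pi.mulSingle i (SL2Hom.lo t))
    rwa [rh_single, ri_lo'] at this
  obtain ⟨g, rfl | rfl | rfl⟩ := exists_coset (ph_cube hF) (ph_not_inn hD hfr hF) hout hP hφ hy
  · obtain ⟨m, hm⟩ := hP ⟨_, hy⟩
    have hm' : MulAut.conj (g ^ 3 ^ m) = MulAut.conj 1 := by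
      rw [map_pow, map_one]
      exact congrArg Subtype.val hm
    have hg : g ^ 3 ^ m = 1 := conj_injective hT hm'
    have h1 := CentX.inner hp hF ok (y := g) (fun i t => ?_) (fun i t => ?_) hg
    · rw [h1, map_one]
    · have h2 := hx i t
      rw [MulAut.conj_apply, mul_inv_eq_iff_eq_mul] at h2
      exact congrArg Subtype.val h2
    · have h2 := hx' i t
      rw [MulAut.conj_apply, mul_inv_eq_iff_eq_mul] at h2
      exact congrArg Subtype.val h2
  · exfalso
    refine no_frob' hD hfr hF g fun t => ?_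
    have h1 := hx i₀ t
    rw [MulAut.mul_apply, ph_xq, MulAut.conj_apply, mul_inv_eq_iff_eq_mul] at h1
    exact h1
  · exfalso
    have e : (MulAut.conj g * ph D F ^ 2) * (MulAut.conj g * ph D F ^ 2) =
        MulAut.conj (g * (ph D F ^ 2) g) * ph D F := by
      have h4 : ph D F ^ 2 * MulAut.conj g * (ph D F ^ 2)⁻¹ = MulAut.conj ((ph D F ^ 2) g) := conj_conj _ _
      have h5 : ph D F = ph D F ^ 2 * ph D F ^ 2 := by
        rw [← pow_add]
        change _ = ph D F ^ (3 + 1)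
        rw [pow_succ, ph_cube hF, one_mul]
      calc (MulAut.conj g * ph D F ^ 2) * (MulAut.conj g * ph D F ^ 2)
          = MulAut.conj g * (ph D F ^ 2 * MulAut.conj g * (ph D F ^ 2)⁻¹) * (ph D F ^ 2 * ph D F ^ 2) := by group
        _ = _ := by rw [h4, ← h5, map_mul]
    refine no_frob' hD hfr hF (g * (ph D F ^ 2) g) fun t => ?_
    have h1 : ((MulAut.conj g * ph D F ^ 2) * (MulAut.conj g * ph D F ^ 2)) (xq hD (θ i₀) t) = xq hD (θ i₀) t := by
      rw [MulAut.mul_apply, hx, hx]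
    rw [e, MulAut.mul_apply, ph_xq, MulAut.conj_apply, mul_inv_eq_iff_eq_mul] at h1
    exact h1

end cent

end Cfsg.Agent.H134.Syl.Ch8
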