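import Cfsg.Agent.H134.Syl.Wr
import Cfsg.Agent.H903.SylMeet

/-!
# The core argument for `G₂(8)` and `F₄(8)` (helper134, for S2484 and S5760)

`X = ρ (ι → L)`, `S = ρ (ι → C)`, `P` a 3-group of automorphisms of `T` which normalises `S`.
If `y, x y x⁻¹ ∈ P` (`x ∈ X`) then `y` normalises `⟨S, x⁻¹ S x⟩ = X`.
-/

set_option autoImplicit false

namespace Cfsg.Agent.H134.Syl

open Cfsg.Agent.H903.SylMeet

variable {ι : Type} [Fintype ι] [DecidableEq ι] {L : Type} [Group L] {T : Type} [Group T]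

/-- `y` normalises `ρ (ι → C)` -/
def NormS (C : Subgroup L) (ρ : (ι → L) →* T) (y : MulAut T) : Prop :=
  ∀ f, (∀ i, f i ∈ C) → ∃ f', (∀ i, f' i ∈ C) ∧ y (ρ f) = ρ f'

variable {C : Subgroup L} {ρ : (ι → L) →* T}

omit [Fintype ι] [DecidableEq ι] in
theorem conj_apply' (x : T) (y : MulAut T) (t : T) :
    (MulAut.conj x * y * (MulAut.conj x)⁻¹) t = x * y (x⁻¹ * t * x) * x⁻¹ := by
  rw [MulAut.mul_apply, MulAut.mul_apply, MulAut.conj_inv_apply, MulAut.conj_apply]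

/-- **`y` acts on `X`.** -/
theorem exists_act_of_norm [Finite L] [IsSimpleGroup L] (hL : ¬ IsMulCommutative L) (hρ : Function.Injective ρ)
    {x : ι → L} (hgen : ∀ i, C ⊔ C.map (MulAut.conj (x i)⁻¹).toMonoidHom = ⊤) {y : MulAut T} (hy : NormS C ρ y)
    (hy' : NormS C ρ (MulAut.conj (ρ x) * y * (MulAut.conj (ρ x))⁻¹)) : ∃ σ α, Act ρ y σ α := by
  refine exists_act hL hρ ?_
  let U : Subgroup (ι → L) :=
    { carrier := {f | ∃ f', y (ρ f) = ρ f'}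
      one_mem' := ⟨1, by rw [map_one, map_one]⟩
      mul_mem' := by
        rintro f g ⟨f', hf⟩ ⟨g', hg⟩
        exact ⟨f' * g', by rw [map_mul, map_mul, hf, hg, map_mul]⟩
      inv_mem' := by
        rintro f ⟨f', hf⟩
        exact ⟨f'⁻¹, by rw [map_inv, map_inv, hf, map_inv]⟩ }
  have hU : ∀ f, f ∈ U ↔ ∃ f', y (ρ f) = ρ f' := fun f => Iff.rfl
  have hC : ∀ i, ∀ c ∈ C, ∀ k, (Pi.mulSingle i c : ι → L) k ∈ C := by
    intro i c hc k
    by_cases hk : k = i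
    · subst hk
      rw [Pi.mulSingle_eq_same]
      exact hc
    · rw [Pi.mulSingle_eq_of_ne hk]
      exact C.one_mem
  have h1 : ∀ i, (⊤ : Subgroup L) ≤ U.comap (MonoidHom.mulSingle (fun _ : ι => L) i) := by
    intro i
    rw [← hgen i]
    refine sup_le ?_ ?_
    · intro c hc
      obtain ⟨f', -, hf'⟩ := hy (Pi.mulSingle i c) (hC i c hc)
      exact ⟨f', hf'⟩
    · rintro _ ⟨c, hc, rfl⟩
      obtain ⟨f', -, hf'⟩ := hy' (Pi.mulSingle i c) (hC i c hc)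
      rw [conj_apply', ← map_inv, ← map_mul, ← map_mul] at hf'
      have e : (MonoidHom.mulSingle (fun _ : ι => L) i) ((MulAut.conj (x i)⁻¹).toMonoidHom c) =
          x⁻¹ * Pi.mulSingle i c * x := by
        ext k
        by_cases hk : k = i
        · subst hk
          simp
        · simp [hk]
      rw [Subgroup.mem_comap, e]
      refine ⟨x⁻¹ * f' * x, ?_⟩
      rw [map_mul ρ (x⁻¹ * f'), map_mul ρ x⁻¹, ← hf', map_inv]
      group
  intro f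
  rw [← hU]
  exact Subgroup.pi_mem_of_mulSingle_mem _ fun i => h1 i (Subgroup.mem_top (f i))

/-- the automorphisms induced on the `i`-th factor -/
def Ai (P : Subgroup (MulAut T)) (ρ : (ι → L) →* T) (i : ι) : Subgroup (MulAut L) where
  carrier := {α | ∃ y ∈ P, ∃ β, Act ρ y 1 β ∧ β i = α}
  one_mem' := ⟨1, P.one_mem, 1, Act.one, rfl⟩
  mul_mem' := by
    rintro _ _ ⟨y, hy, β, h, rfl⟩ ⟨y', hy', β', h', rfl⟩
    exact ⟨y * y', P.mul_mem hy hy', β * β', h.mul h', rfl⟩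
  inv_mem' := by
    rintro _ ⟨y, hy, β, h, rfl⟩
    exact ⟨y⁻¹, P.inv_mem hy, β⁻¹, h.inv_one, rfl⟩

omit [Fintype ι] [DecidableEq ι] in
theorem mem_Ai {P : Subgroup (MulAut T)} {i : ι} {y : MulAut T} (hy : y ∈ P) {β : ι → MulAut L} (h : Act ρ y 1 β) :
    β i ∈ Ai P ρ i := ⟨y, hy, β, h, rfl⟩

omit [Fintype ι] [DecidableEq ι] in
theorem pow_eq_one [DecidableEq ι] (hρ : Function.Injective ρ) [Nontrivial L] {y : MulAut T} {β : ι → MulAut L}
    (h : Act ρ y 1 β) {n : ℕ} (hn : y ^ n = 1) : β ^ n = 1 := by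
  have h1 := h.pow_one n
  rw [hn] at h1
  exact (h1.unique hρ Act.one).2

omit [Fintype ι] in
theorem isPGroup_Ai (hρ : Function.Injective ρ) [Nontrivial L] {P : Subgroup (MulAut T)} (hP : IsPGroup 3 P) (i : ι) :
    IsPGroup 3 (Ai P ρ i) := by
  rintro ⟨_, y, hy, β, h, rfl⟩
  obtain ⟨n, hn⟩ := hP ⟨y, hy⟩
  have hn' : y ^ 3 ^ n = 1 := congrArg Subtype.val hn
  refine ⟨n, Subtype.ext ?_⟩
  change β i ^ 3 ^ n = 1
  exact congrFun (pow_eq_one hρ h hn') i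

omit [Fintype ι] [DecidableEq ι] in
/-- the last step: `y` acts by `σ = 1` -/
theorem last_step {P : Subgroup (MulAut T)}
    (hcent : ∀ y ∈ P, (∀ f, y (ρ f) = ρ f) → y = 1) {x : ι → L}
    (hx : ∀ i, ∀ α ∈ Ai P ρ i, MulAut.conj (x i) * α * (MulAut.conj (x i))⁻¹ ∈ Ai P ρ i → α = 1) {y : MulAut T}
    (hy : y ∈ P) (hy' : MulAut.conj (ρ x) * y * (MulAut.conj (ρ x))⁻¹ ∈ P) {α : ι → MulAut L} (h : Act ρ y 1 α) :
    y = 1 := by
  have h1 : ∀ i, α i = 1 := by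
    intro i
    refine hx i _ (mem_Ai hy h) ?_
    have h2 := ((Act.conj (ρ := ρ) x).mul h).mul (Act.conj (ρ := ρ) x).inv_one
    exact mem_Ai hy' h2
  refine hcent y hy fun f => ?_
  rw [h f]
  congr 1
  ext j
  rw [h1]
  rfl

omit [Fintype ι] [DecidableEq ι] in
/-- the element of `C` -/
theorem conj_mem_Ai {P : Subgroup (MulAut T)} (hCP : ∀ f, (∀ i, f i ∈ C) → MulAut.conj (ρ f) ∈ P) {c : L} (hc : c ∈ C)
    (i : ι) : MulAut.conj c ∈ Ai P ρ i :=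
  mem_Ai (i := i) (hCP (fun _ => c) fun _ => hc) (Act.conj (ρ := ρ) fun _ => c)

theorem gen_of_good [IsSimpleGroup L] (hL : ¬ IsMulCommutative L)
    (hgen : ∀ x : L, (∀ c ∈ C, x * c * x⁻¹ ∈ C → c = 1) → C ⊔ C.map (MulAut.conj x⁻¹).toMonoidHom = ⊤)
    {A : Subgroup (MulAut L)} (hCA : ∀ c ∈ C, MulAut.conj c ∈ A) {x : L}
    (hx : ∀ α ∈ A, MulAut.conj x * α * (MulAut.conj x)⁻¹ ∈ A → α = 1) :
    C ⊔ C.map (MulAut.conj x⁻¹).toMonoidHom = ⊤ := by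
  apply hgen
  intro c hc hxc
  apply conj_injective hL
  rw [map_one]
  refine hx _ (hCA c hc) ?_
  rw [← map_mul, ← map_inv, ← map_mul]
  exact hCA _ hxc

/-- **Two factors.** -/
theorem core_two [Finite L] [IsSimpleGroup L] (hL : ¬ IsMulCommutative L) (hmeet : Meet 3 L)
    (hgen : ∀ x : L, (∀ c ∈ C, x * c * x⁻¹ ∈ C → c = 1) → C ⊔ C.map (MulAut.conj x⁻¹).toMonoidHom = ⊤)
    (h2 : ∀ σ : Equiv.Perm ι, ∀ n : ℕ, σ ^ 3 ^ n = 1 → σ = 1)
    (hρ : Function.Injective ρ) {P : Subgroup (MulAut T)} (hP : IsPGroup 3 P) (hPS : ∀ y ∈ P, NormS C ρ y)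
    (hCP : ∀ f, (∀ i, f i ∈ C) → MulAut.conj (ρ f) ∈ P) (hcent : ∀ y ∈ P, (∀ f, y (ρ f) = ρ f) → y = 1) :
    ∃ x : T, ∀ y ∈ P, MulAut.conj x * y * (MulAut.conj x)⁻¹ ∈ P → y = 1 := by
  choose x hx using fun i => hmeet (Ai P ρ i) (isPGroup_Ai hρ hP i)
  refine ⟨ρ x, fun y hy hy' => ?_⟩
  obtain ⟨σ, α, h⟩ := exists_act_of_norm hL hρ
    (fun i => gen_of_good hL hgen (fun c hc => conj_mem_Ai hCP hc i) (hx i)) (hPS y hy) (hPS _ hy')
  obtain ⟨n, hn⟩ := hP ⟨y, hy⟩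
  have hn' : y ^ 3 ^ n = 1 := congrArg Subtype.val hn
  obtain rfl := h2 σ n (h.perm_pow_eq_one hρ hn')
  exact last_step hcent hx hy hy' h

/-- parity -/
theorem parity {A : Type*} [Group A] {B : Subgroup A} (hB : IsPGroup 3 B) {w γ : A} (hw : w ^ 2 = 1) (hw1 : w ≠ 1)
    (hwB : ∀ b ∈ B, w * b * w⁻¹ ∈ B) {n : ℕ} (hγ : γ ^ 3 ^ n = 1) (h : w * γ ∈ B) : False := by
  have h1 : w⁻¹ = w := inv_eq_of_mul_eq_one_left (by rw [← sq, hw])
  have h2 : γ * γ ∈ B := by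
    have e : γ * γ = (w * (w * γ) * w⁻¹) * (w * γ) := by
      rw [h1]
      have : w * w = 1 := by rw [← sq, hw]
      calc γ * γ = (w * w) * γ * (w * w) * γ := by rw [this]; group
        _ = _ := by group
    rw [e]
    exact B.mul_mem (hwB _ h) h
  have h3 : γ ∈ B := by
    have hodd : ∃ k, 3 ^ n + 1 = 2 * k := by
      have : Odd (3 ^ n) := Odd.pow (by decide)
      obtain ⟨k, hk⟩ := this
      exact ⟨k + 1, by omega⟩
    obtain ⟨k, hk⟩ := hodd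
    have h4 : γ ^ (3 ^ n + 1) = γ := by rw [pow_succ, hγ, one_mul]
    rw [← h4, hk, pow_mul, sq]
    exact B.pow_mem h2 k
  have h4 : w ∈ B := by
    have : w = w * γ * γ⁻¹ := by group
    rw [this]
    exact B.mul_mem h (B.inv_mem h3)
  obtain ⟨m, hm⟩ := hB ⟨w, h4⟩
  have hm' : w ^ 3 ^ m = 1 := congrArg Subtype.val hm
  apply hw1
  have h5 : orderOf w ∣ 3 ^ m := orderOf_dvd_of_pow_eq_one hm'
  have h6 : orderOf w ∣ 2 := orderOf_dvd_of_pow_eq_one hw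
  have h7 : orderOf w ∣ 1 := by
    rw [← Nat.Coprime.gcd_eq_one (m := 3 ^ m) (n := 2) (Nat.Coprime.pow_left _ (by norm_num))]
    exact Nat.dvd_gcd h5 h6
  exact orderOf_eq_one_iff.1 (Nat.dvd_one.1 h7)

/-- the 3-cycle -/
def cyc : Equiv.Perm (Fin 4) := finRotate 4 * Equiv.swap 0 3

theorem cyc_facts : cyc 0 = 0 ∧ cyc 1 = 2 ∧ cyc 2 = 3 ∧ cyc 3 = 1 := by decide

theorem perm_four (σ : Equiv.Perm (Fin 4)) (h : ∀ i : ℕ, ∃ n : ℕ, (σ * cyc ^ i) ^ 3 ^ n = 1) :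
    σ = 1 ∨ σ = cyc ∨ σ = cyc ^ 2 := by
  have h3 : ∀ τ : Equiv.Perm (Fin 4), (∃ n : ℕ, τ ^ 3 ^ n = 1) → τ ^ 3 = 1 := by
    rintro τ ⟨n, hn⟩
    have h12 : τ ^ 24 = 1 := by
      have := pow_card_eq_one (G := Equiv.Perm (Fin 4)) (x := τ)
      rwa [Fintype.card_perm, Fintype.card_fin, show Nat.factorial 4 = 24 by decide] at this
    have h1 : orderOf τ ∣ 3 ^ n := orderOf_dvd_of_pow_eq_one hn
    have h2 : orderOf τ ∣ 8 * 3 := orderOf_dvd_of_pow_eq_one h12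
    have h3 : Nat.Coprime (orderOf τ) 8 := by
      refine Nat.Coprime.coprime_dvd_left h1 (Nat.Coprime.pow_left _ (by norm_num))
    exact orderOf_dvd_iff_pow_eq_one.1 (h3.dvd_of_dvd_mul_left h2)
  have key : ∀ σ : Equiv.Perm (Fin 4), (σ ^ 3 = 1 ∧ (σ * cyc) ^ 3 = 1 ∧ (σ * cyc ^ 2) ^ 3 = 1) →
      σ = 1 ∨ σ = cyc ∨ σ = cyc ^ 2 := by decide +kernel
  refine key σ ⟨h3 _ ?_, h3 _ ?_, h3 _ ?_⟩
  · simpa using h 0
  · simpa using h 1
  · exact h 2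

/-- **Four factors with a 3-cycle.** -/
theorem core_four {ρ : (Fin 4 → L) →* T} [Finite L] [IsSimpleGroup L] (hL : ¬ IsMulCommutative L) (hmeet : Meet 3 L)
    (hgen : ∀ x : L, (∀ c ∈ C, x * c * x⁻¹ ∈ C → c = 1) → C ⊔ C.map (MulAut.conj x⁻¹).toMonoidHom = ⊤)
    {φ₀ : MulAut L}
    (huniq : ∀ A A' : Subgroup (MulAut L), IsPGroup 3 A → IsPGroup 3 A' → (∀ c ∈ C, MulAut.conj c ∈ A) →
      (∀ c ∈ C, MulAut.conj c ∈ A') → φ₀ ∈ A → φ₀ ∈ A' → A = A')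
    {w : L} (hw : w ^ 2 = 1) (hw1 : w ≠ 1) (hwC : ∀ c ∈ C, w⁻¹ * c * w ∈ C) (hwφ : φ₀ w = w)
    (hρ : Function.Injective ρ) {P : Subgroup (MulAut T)} (hP : IsPGroup 3 P) (hPS : ∀ y ∈ P, NormS C ρ y)
    (hCP : ∀ f, (∀ i, f i ∈ C) → MulAut.conj (ρ f) ∈ P) (hcent : ∀ y ∈ P, (∀ f, y (ρ f) = ρ f) → y = 1)
    {φ : MulAut T} (hφ : φ ∈ P) (hφ' : Act ρ φ 1 fun _ => φ₀) {b : MulAut T} (hb : b ∈ P) (hb' : Act ρ b cyc 1) :
    ∃ x : T, ∀ y ∈ P, MulAut.conj x * y * (MulAut.conj x)⁻¹ ∈ P → y = 1 := by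
  -- all the groups `Ai` are equal
  set A := Ai P ρ 0 with hA
  have hAP := isPGroup_Ai hρ hP (0 : Fin 4)
  have hAi : ∀ i, Ai P ρ i = A := fun i => huniq _ _ (isPGroup_Ai hρ hP i) (isPGroup_Ai hρ hP 0)
    (fun c hc => conj_mem_Ai hCP hc i) (fun c hc => conj_mem_Ai hCP hc 0) (mem_Ai hφ hφ') (mem_Ai hφ hφ')
  rw [← hA] at hAP
  have hCA : ∀ c ∈ C, MulAut.conj c ∈ A := fun c hc => conj_mem_Ai hCP hc 0
  have hφA : φ₀ ∈ A := mem_Ai (i := 0) hφ hφ'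
  -- `w` normalises `A`
  have hwA : ∀ a ∈ A, MulAut.conj w * a * (MulAut.conj w)⁻¹ ∈ A := by
    have hφw : φ₀ * MulAut.conj w = MulAut.conj w * φ₀ := by
      ext t
      simp [MulAut.mul_apply, MulAut.conj_apply, hwφ]
    let A' : Subgroup (MulAut L) := A.map (MulAut.conj (MulAut.conj w)).toMonoidHom
    have h1 : A = A' := by
      refine huniq _ _ hAP (hAP.map _) hCA ?_ hφA ?_
      · intro c hc
        refine ⟨MulAut.conj (w⁻¹ * c * w), hCA _ (hwC c hc), ?_⟩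
        change MulAut.conj w * MulAut.conj (w⁻¹ * c * w) * (MulAut.conj w)⁻¹ = _
        rw [← map_inv, ← map_mul, ← map_mul]
        congr 1
        group
      · refine ⟨φ₀, hφA, ?_⟩
        change MulAut.conj w * φ₀ * (MulAut.conj w)⁻¹ = _
        rw [← hφw]
        group
    intro a ha
    have h2 : (MulAut.conj (MulAut.conj w)).toMonoidHom a ∈ A' := Subgroup.mem_map_of_mem _ ha
    rw [← h1] at h2
    exact h2
  have hw2 : (MulAut.conj w) ^ 2 = 1 := by rw [← map_pow, hw, map_one]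
  have hwinv : (MulAut.conj w)⁻¹ = MulAut.conj w := inv_eq_of_mul_eq_one_left (by rw [← sq, hw2])
  have hcw1 : MulAut.conj w ≠ 1 := by
    intro h
    exact hw1 (conj_injective hL (h.trans (map_one _).symm))
  obtain ⟨x₀, hx₀⟩ := hmeet A hAP
  -- the element
  let x : Fin 4 → L := fun i => if i = 3 then w * x₀ else x₀
  have hx : ∀ i, ∀ α ∈ Ai P ρ i, MulAut.conj (x i) * α * (MulAut.conj (x i))⁻¹ ∈ Ai P ρ i → α = 1 := by
    intro i α hα h
    rw [hAi] at hα h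
    by_cases hi : i = 3
    · have e : x i = w * x₀ := if_pos hi
      rw [e, map_mul] at h
      apply hx₀ α hα
      have h2 := hwA _ h
      have e2 : MulAut.conj w * (MulAut.conj w * MulAut.conj x₀ * α * (MulAut.conj w * MulAut.conj x₀)⁻¹) *
          (MulAut.conj w)⁻¹ = (MulAut.conj w ^ 2) * (MulAut.conj x₀ * α * (MulAut.conj x₀)⁻¹) *
          (MulAut.conj w ^ 2)⁻¹ := by rw [sq, mul_inv_rev, mul_inv_rev]; simp only [mul_assoc]
      rw [e2, hw2] at h2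
      simpa using h2
    · have e : x i = x₀ := if_neg hi
      rw [e] at h
      exact hx₀ α hα h
  refine ⟨ρ x, ?_⟩
  -- the 3-cycles
  have hcyc : ∀ y ∈ P, MulAut.conj (ρ x) * y * (MulAut.conj (ρ x))⁻¹ ∈ P → ∀ α, ¬ Act ρ y cyc α := by
    intro y hy hy' α h
    have h0 : Act ρ (y * b⁻¹) 1 α := by
      intro f
      have h1 : b (ρ fun j => f (cyc j)) = ρ f := by
        rw [hb']
        congr 1
        ext j
        change f (cyc (cyc.symm j)) = f j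
        rw [Equiv.apply_symm_apply]
      rw [MulAut.mul_apply, ← h1, MulAut.inv_apply_self, h]
      congr 1
      ext j
      change α j (f (cyc (cyc.symm j))) = α j (f j)
      rw [Equiv.apply_symm_apply]
    have hα : α 3 ∈ A := by
      rw [← hAi 3]
      exact mem_Ai (P.mul_mem hy (P.inv_mem hb)) h0
    have hP2 : MulAut.conj (ρ (x * (fun j => α j (x (cyc.symm j)))⁻¹)) ∈ P := by
      have h1 : MulAut.conj (ρ (x * (fun j => α j (x (cyc.symm j)))⁻¹)) =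
          (MulAut.conj (ρ x) * y * (MulAut.conj (ρ x))⁻¹) * y⁻¹ := by
        rw [map_mul ρ, map_inv ρ, ← h x]
        ext t
        simp [MulAut.mul_apply, MulAut.conj_apply, mul_assoc]
      rw [h1]
      exact P.mul_mem hy' (P.inv_mem hy)
    have h3 : MulAut.conj ((x * (fun j => α j (x (cyc.symm j)))⁻¹) 3) ∈ A := by
      rw [← hAi 3]
      exact mem_Ai (i := (3 : Fin 4)) hP2 (Act.conj (ρ := ρ) _)
    have e3 : (x * (fun j => α j (x (cyc.symm j)))⁻¹) 3 = w * x₀ * (α 3 x₀)⁻¹ := by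
      have e4 : cyc.symm 3 = 2 := by decide
      change x 3 * (α 3 (x (cyc.symm 3)))⁻¹ = _
      rw [e4]
      rfl
    rw [e3] at h3
    obtain ⟨n, hn⟩ := hAP ⟨α 3, hα⟩
    have hn' : (α 3) ^ 3 ^ n = 1 := congrArg Subtype.val hn
    refine parity hAP hw2 hcw1 hwA (γ := MulAut.conj x₀ * α 3 * (MulAut.conj x₀)⁻¹) (n := n) ?_ ?_
    · rw [conj_pow, hn']; group
    · have e5 : MulAut.conj w * (MulAut.conj x₀ * α 3 * (MulAut.conj x₀)⁻¹) =
          MulAut.conj (w * x₀ * (α 3 x₀)⁻¹) * α 3 := by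
        ext t
        simp [MulAut.mul_apply, MulAut.conj_apply, mul_assoc]
      rw [e5]
      exact A.mul_mem h3 hα
  intro y hy hy'
  obtain ⟨σ, α, h⟩ := exists_act_of_norm hL hρ
    (fun i => gen_of_good hL hgen (fun c hc => conj_mem_Ai hCP hc i) (hx i)) (hPS y hy) (hPS _ hy')
  have hσ : σ = 1 ∨ σ = cyc ∨ σ = cyc ^ 2 := by
    apply perm_four
    intro i
    obtain ⟨β, hβ⟩ := hb'.pow i
    obtain ⟨n, hn⟩ := hP ⟨y * b ^ i, P.mul_mem hy (P.pow_mem hb i)⟩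
    have hn' : (y * b ^ i) ^ 3 ^ n = 1 := congrArg Subtype.val hn
    exact ⟨n, (h.mul hβ).perm_pow_eq_one hρ hn'⟩
  rcases hσ with rfl | rfl | rfl
  · exact last_step hcent hx hy hy' h
  · exact absurd h (hcyc y hy hy' α)
  · obtain ⟨β, hβ⟩ := h.pow 2
    have e : (cyc ^ 2) ^ 2 = cyc := by decide
    rw [e] at hβ
    refine absurd hβ (hcyc (y ^ 2) (P.pow_mem hy 2) ?_ β)
    rw [← conj_pow]
    exact P.pow_mem hy' 2

end Cfsg.Agent.H134.Syl
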