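import Cfsg.Agent.H134.Syl.F4Two
import Cfsg.Agent.FourTwo.Perf
import Cfsg.Agent.H172.SIBase
import Cfsg.Agent.S1054
import Cfsg.Agent.S2122
import Cfsg.Agent.ChevalleyStructure.FieldIso

/-!
# `Meet 3 F₄(2)` (helper134, for S2484 and S5760)
-/

set_option autoImplicit false

namespace Cfsg.Agent.H134.Syl.F4

open Cfsg.Lie Cfsg.Agent.FourTwo.Base

theorem meet3_LL : Cfsg.Agent.H903.SylMeet.Meet 3 LL := by
  have hs := Cfsg.Agent.S1054.result (F := ZMod 2) chevF4 (by simp)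
  have h1 : IsSimpleGroup LL := hs.1
  have h2 : ¬ IsMulCommutative LL := hs.2
  have h3 : Fact (Nat.Prime 3) := ⟨by norm_num⟩
  have h4 : Finite LL := inferInstance
  refine H172.SI.meet_of_inner h2 ?_ R (IsPGroup.of_card (n := 6) (by rw [card_R]; norm_num)) ?_ ⟨(wd x0), ?_⟩
  · have h5 := Cfsg.Agent.S2122.result (F := ZMod 2) 2 1 (by simp)
    have h6 : Nat.card (Cfsg.Out LL) = Nat.gcd 2 2 * 1 := h5
    rw [h6]
    norm_num
  · have h5 := Subgroup.card_mul_index R
    rw [card_R, Cfsg.Agent.FourTwo.Perf.card_LL] at h5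
    intro hd
    obtain ⟨k, hk⟩ := hd
    rw [hk] at h5
    omega
  · intro y hy hx
    have := meet hy hx
    have e : y = (wd x0)⁻¹ * (wd x0 * y * (wd x0)⁻¹) * wd x0 := by group
    rw [e, this]
    group

/-- **`Meet 3` for `F₄(2)`.** -/
theorem meet3_F4_two {F : Type} [Field F] [Fintype F] (hF : Fintype.card F = 2) :
    Cfsg.Agent.H903.SylMeet.Meet 3 ↥(Cfsg.Lie.chevF4.group F) := by
  have φ : ZMod 2 ≃+* F := FiniteField.ringEquivOfCardEq (by rw [ZMod.card, hF])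
  exact H903.SylMeet.Meet.congr (ChevalleyStructure.FieldIso.groupEquiv chevF4 φ) meet3_LL

end Cfsg.Agent.H134.Syl.F4
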