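import Cfsg.Agent.H134.Syl.SLEight

/-!
# The Sylow 3-subgroup which normalises `ρ (ι → C)` (helper134, for S2484 and S5760)
-/

set_option autoImplicit false
set_option linter.unusedSectionVars false

namespace Cfsg.Agent.H134.Syl

open Cfsg.Agent.H903.SylMeet

variable {ι : Type} [Fintype ι] [DecidableEq ι] {L : Type} [Group L] [Finite L] {T : Type} [Group T] [Finite T]
  {C : Subgroup L} {ρ : (ι → L) →* T}

variable (C ρ) in
/-- the inner automorphisms of the elements of `ρ (ι → C)` -/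
def SA : Subgroup (MulAut T) := ((Subgroup.pi Set.univ fun _ : ι => C).map ρ).map MulAut.conj

theorem mem_SA {y : MulAut T} : y ∈ SA C ρ ↔ ∃ f : ι → L, (∀ i, f i ∈ C) ∧ MulAut.conj (ρ f) = y := by
  constructor
  · rintro ⟨_, ⟨f, hf, rfl⟩, rfl⟩
    exact ⟨f, fun i => hf i (Set.mem_univ i), rfl⟩
  · rintro ⟨f, hf, rfl⟩
    exact ⟨_, ⟨f, fun i _ => hf i, rfl⟩, rfl⟩

theorem conj_conj (q : MulAut T) (t : T) : q * MulAut.conj t * q⁻¹ = MulAut.conj (q t) := by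
  ext s
  simp [MulAut.mul_apply, MulAut.conj_apply]

/-- **The Sylow 3-subgroup.** -/
theorem exists_P [IsSimpleGroup T] (hT : ¬ IsMulCommutative T) (hρ : Function.Injective ρ) (hC : Nat.card C = 9)
    (hCc : ∀ a ∈ C, ∀ b ∈ C, a * b = b * a) (Q : Subgroup (MulAut T)) (hQ : ∀ q ∈ Q, NormS C ρ q)
    (hQd : ∀ q ∈ Q, ∀ f : ι → L, (∀ i, f i ∈ C) → MulAut.conj (ρ f) = q → q = 1) {e k : ℕ} (hQc : Nat.card Q = 3 ^ e)
    (hfix : ∀ q ∈ Q, q ≠ 1 → Nat.card {f : ι → L // (∀ i, f i ∈ C) ∧ q (ρ f) = ρ f} ≤ k)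
    (hk : 3 ^ e * k < 9 ^ Fintype.card ι)
    (hP : ∀ P : Sylow 3 (MulAut T), Nat.card P = 3 * (9 ^ Fintype.card ι * 3 ^ e)) :
    ∃ P : Sylow 3 (MulAut T), (∀ f : ι → L, (∀ i, f i ∈ C) → MulAut.conj (ρ f) ∈ P) ∧ Q ≤ P ∧ ∀ y ∈ P, NormS C ρ y := by
  have h3 : Fact (Nat.Prime 3) := ⟨Nat.prime_three⟩
  have hinj := conj_injective hT
  -- the group `S`
  have hScard : Nat.card (SA C ρ) = 9 ^ Fintype.card ι := by
    unfold SA
    rw [← Nat.card_congr (Subgroup.equivMapOfInjective _ _ hinj).toEquiv,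
      ← Nat.card_congr (Subgroup.equivMapOfInjective _ _ hρ).toEquiv]
    have e1 : ↥(Subgroup.pi Set.univ fun _ : ι => C) ≃ (ι → C) :=
      { toFun := fun f i => ⟨f.1 i, f.2 i (Set.mem_univ i)⟩
        invFun := fun f => ⟨fun i => (f i).1, fun i _ => (f i).2⟩
        left_inv := fun _ => rfl
        right_inv := fun _ => rfl }
    rw [Nat.card_congr e1, Nat.card_pi, Finset.prod_const, hC, Finset.card_univ]
  have hSc : ∀ a ∈ SA C ρ, ∀ b ∈ SA C ρ, a * b = b * a := by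
    intro a ha b hb
    obtain ⟨f, hf, rfl⟩ := mem_SA.1 ha
    obtain ⟨g, hg, rfl⟩ := mem_SA.1 hb
    have : f * g = g * f := funext fun i => hCc _ (hf i) _ (hg i)
    rw [← map_mul, ← map_mul, this, map_mul, map_mul]
  have hQn : ∀ q ∈ Q, ∀ n ∈ SA C ρ, q * n * q⁻¹ ∈ SA C ρ := by
    intro q hq n hn
    obtain ⟨f, hf, rfl⟩ := mem_SA.1 hn
    obtain ⟨f', hf', he⟩ := hQ q hq f hf
    rw [conj_conj, he]
    exact mem_SA.2 ⟨f', hf', rfl⟩
  have hMcard : Nat.card ↥(SA C ρ ⊔ Q) = 9 ^ Fintype.card ι * 3 ^ e := by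
    rw [card_sup_norm hQn, hScard, hQc]
    intro x hx hxQ
    obtain ⟨f, hf, he⟩ := mem_SA.1 hx
    exact hQd x hxQ f hf he
  have hMp : IsPGroup 3 ↥(SA C ρ ⊔ Q) := by
    apply IsPGroup.of_card (n := 2 * Fintype.card ι + e)
    rw [hMcard, pow_add, pow_mul]
    norm_num
  obtain ⟨P, hMP⟩ := hMp.exists_le_sylow
  refine ⟨P, fun f hf => hMP (Subgroup.mem_sup_left (mem_SA.2 ⟨f, hf, rfl⟩)), le_sup_right.trans hMP, ?_⟩
  have hn := norm_of_fix (P := (P : Subgroup (MulAut T))) (M := SA C ρ ⊔ Q) (S := SA C ρ) (k := k) le_sup_left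
    (norm_of_card P.isPGroup' hMP (by rw [hMcard]; exact hP P)) hSc ?_ ?_
  · intro y hy f hf
    have h1 := hn y hy _ (mem_SA.2 ⟨f, hf, rfl⟩)
    rw [conj_conj] at h1
    obtain ⟨f', hf', he⟩ := mem_SA.1 h1
    exact ⟨f', hf', (hinj he).symm⟩
  · intro m hm hmS
    obtain ⟨n, hn, q, hq, rfl⟩ := (mem_sup_norm hQn).1 hm
    have hq1 : q ≠ 1 := by
      rintro rfl
      apply hmS
      rw [mul_one]
      exact hn
    refine le_trans ?_ (hfix q hq hq1)
    have hfin : Finite {f : ι → L // (∀ i, f i ∈ C) ∧ q (ρ f) = ρ f} := Subtype.finite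
    -- elements of `S` commuting with `n q` commute with `q`
    have key : ∀ s : {s // s ∈ SA C ρ ∧ n * q * s = s * (n * q)},
        ∃ f : {f : ι → L // (∀ i, f i ∈ C) ∧ q (ρ f) = ρ f}, MulAut.conj (ρ f.1) = s.1 := by
      rintro ⟨s, hs, hc⟩
      obtain ⟨f, hf, rfl⟩ := mem_SA.1 hs
      refine ⟨⟨f, hf, ?_⟩, rfl⟩
      apply hinj
      rw [← conj_conj]
      have h5 : n * (q * MulAut.conj (ρ f)) = n * (MulAut.conj (ρ f) * q) := by
        rw [← mul_assoc, hc, ← mul_assoc, ← mul_assoc, hSc n hn _ hs]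
      rw [mul_left_cancel h5]
      group
    choose g hg using key
    exact Nat.card_le_card_of_injective g fun a b hab => Subtype.ext (by rw [← hg a, ← hg b, hab])
  · rw [hMcard, hScard, sq]
    calc 9 ^ Fintype.card ι * 3 ^ e * k = 9 ^ Fintype.card ι * (3 ^ e * k) := by ring
      _ < 9 ^ Fintype.card ι * 9 ^ Fintype.card ι := Nat.mul_lt_mul_of_pos_left hk (by positivity)

end Cfsg.Agent.H134.Syl
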