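import Cfsg.Agent.H134.Syl.Chev8
import Cfsg.Agent.S2121
import Cfsg.Agent.S2122
import Cfsg.Agent.S1059
import Cfsg.Agent.S1062

/-!
# The Sylow 3-subgroups of `Aut G₂(8)` and `Aut F₄(8)` (helper134, for S2484 and S5760)
-/

set_option autoImplicit false
set_option linter.unusedSectionVars false

namespace Cfsg.Agent.H134.Syl.Ch8

open Cfsg.Lie Cfsg.Agent.ChevalleyStructure Cfsg.Agent.ChevalleyStructure.Elts
open Cfsg.Agent.H903.SylMeet
open Cfsg.Agent.H134.Syl.SL8 (τ φ₀ φ₀_apply)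

variable {D : ChevalleyDatum} (hD : InList D) {n : ℕ} {θ : Fin n → ℕ} {F : Type} [Field F] [Fintype F] [CharP F 2]

local notation "SL" => Matrix.SpecialLinearGroup (Fin 2) F

theorem φ₀_pow_mem (m : ℕ) : ∀ c ∈ SL8.C F, (φ₀ ^ m) c ∈ SL8.C F := by
  induction m with
  | zero => intro c hc; exact hc
  | succ m ih => intro c hc; rw [pow_succ, MulAut.mul_apply]; exact ih _ (SL8.φ₀_mem hc)

theorem normS_of_act {ρ : (Fin n → SL) →* ↥(D.group F)} {y : MulAut ↥(D.group F)} {σ : Equiv.Perm (Fin n)}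
    {α : Fin n → MulAut SL} (h : Act ρ y σ α) (hα : ∀ j, ∀ c ∈ SL8.C F, α j c ∈ SL8.C F) : NormS (SL8.C F) ρ y :=
  fun f hf => ⟨_, fun j => hα j _ (hf _), h f⟩

theorem ph_pow_cases (hF : Fintype.card F = 8) (m : ℕ) :
    ph D F ^ m = 1 ∨ ph D F ^ m = ph D F ∨ ph D F ^ m = ph D F ^ 2 := by
  have h8 : ph D F ^ m = ph D F ^ (m % 3) := by
    conv_lhs => rw [← Nat.div_add_mod m 3, pow_add, pow_mul, ph_cube hF, one_pow, one_mul]
  rw [h8]
  rcases (by omega : m % 3 = 0 ∨ m % 3 = 1 ∨ m % 3 = 2) with h | h | h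
  · left; rw [h, pow_zero]
  · right; left; rw [h, pow_one]
  · right; right; rw [h]

theorem ph_sq_sq (hF : Fintype.card F = 8) : ph D F ^ 2 * ph D F ^ 2 = ph D F := by
  rw [← pow_add]
  change ph D F ^ (3 + 1) = _
  rw [pow_succ, ph_cube hF, one_mul]

include hD in
theorem ph_pow_inn {i₀ : Fin n} {i₁ : Fin D.rank} (hfr : Fr D (θ i₀) i₁) (hF : Fintype.card F = 8) {m : ℕ}
    (h : ph D F ^ m ∈ Cfsg.Inn ↥(D.group F)) : ph D F ^ m = 1 := by
  rcases ph_pow_cases (D := D) hF m with h1 | h1 | h1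
  · exact h1
  · rw [h1] at h
    exact absurd h (ph_not_inn hD hfr hF)
  · rw [h1] at h
    have h2 := mul_mem h h
    rw [ph_sq_sq hF] at h2
    exact absurd h2 (ph_not_inn hD hfr hF)

theorem fix_of_pow (ho : Orth D θ) (hF : Fintype.card F = 8) {m : ℕ} (hm : ph D F ^ m ≠ 1) {f : Fin n → SL}
    (h : (ph D F ^ m) (rh hD F ho f) = rh hD F ho f) (i : Fin n) : φ₀ (f i) = f i := by
  have h1 : ph D F (rh hD F ho f) = rh hD F ho f := by
    rcases ph_pow_cases (D := D) hF m with h1 | h1 | h1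
    · exact absurd h1 hm
    · rwa [h1] at h
    · rw [h1] at h
      rw [← ph_sq_sq (D := D) hF, MulAut.mul_apply, h, h]
  rw [act_ph hD ho] at h1
  exact congrFun (rh_injective hD hF ho h1) i

theorem card_fix_pi : Nat.card {f : Fin n → SL // ∀ i, f i ∈ SL8.C F ∧ φ₀ (f i) = f i} ≤ 3 ^ n := by
  have e1 : {f : Fin n → SL // ∀ i, f i ∈ SL8.C F ∧ φ₀ (f i) = f i} ≃
      (Fin n → {c : SL // c ∈ SL8.C F ∧ φ₀ c = c}) :=
    { toFun := fun f i => ⟨f.1 i, f.2 i⟩
      invFun := fun f => ⟨fun i => (f i).1, fun i => (f i).2⟩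
      left_inv := fun _ => rfl
      right_inv := fun _ => rfl }
  rw [Nat.card_congr e1, Nat.card_pi, Finset.prod_const, Finset.card_univ, Fintype.card_fin]
  exact Nat.pow_le_pow_left SL8.card_fix n

theorem card_fix_ph (ho : Orth D θ) (hF : Fintype.card F = 8) {m : ℕ} (hm : ph D F ^ m ≠ 1) :
    Nat.card {f : Fin n → SL // (∀ i, f i ∈ SL8.C F) ∧ (ph D F ^ m) (rh hD F ho f) = rh hD F ho f} ≤ 3 ^ n := by
  refine le_trans ?_ (card_fix_pi (n := n) (F := F))
  have : Finite {f : Fin n → SL // ∀ i, f i ∈ SL8.C F ∧ φ₀ (f i) = f i} := Subtype.finite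
  exact Nat.card_le_card_of_injective (fun f : {f : Fin n → SL // (∀ i, f i ∈ SL8.C F) ∧
      (ph D F ^ m) (rh hD F ho f) = rh hD F ho f} =>
      (⟨f.1, fun i => ⟨f.2.1 i, fix_of_pow hD ho hF hm f.2.2 i⟩⟩ :
        {f : Fin n → SL // ∀ i, f i ∈ SL8.C F ∧ φ₀ (f i) = f i}))
    fun a b hab => Subtype.ext (congrArg (fun z : {f : Fin n → SL // ∀ i, f i ∈ SL8.C F ∧ φ₀ (f i) = f i} => z.1) hab)

/-! ### `G₂(8)` -/

section g2

theorem orthG : Orth chevG2 CentX.θG := by decide +kernel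

theorem frG : Fr chevG2 (CentX.θG 0) ⟨0, by decide +kernel⟩ where
  lt := by decide +kernel
  chk := by decide +kernel
  neg := by decide +kernel
  ne := by decide +kernel
  odd := by decide +kernel

theorem perm_two (σ : Equiv.Perm (Fin 2)) (m : ℕ) (h : σ ^ 3 ^ m = 1) : σ = 1 := by
  have h1 : σ ^ 2 = 1 := by
    have key : ∀ σ : Equiv.Perm (Fin 2), σ ^ 2 = 1 := by decide
    exact key σ
  have h2 : orderOf σ ∣ 3 ^ m := orderOf_dvd_of_pow_eq_one h
  have h3 : orderOf σ ∣ 2 := orderOf_dvd_of_pow_eq_one h1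
  have h4 : Nat.Coprime (3 ^ m) 2 := Nat.Coprime.pow_left _ (by norm_num)
  exact orderOf_eq_one_iff.1 (Nat.eq_one_of_dvd_coprimes h4 h2 h3)

omit [Fintype F] [CharP F 2] in
theorem exists_ne_of_card [Fintype F] (hF : Fintype.card F = 8) : ∃ a : F, a ≠ 0 ∧ a ≠ 1 := by
  classical
  by_contra hcon
  push Not at hcon
  have h1 : (Finset.univ : Finset F) ⊆ {0, 1} := by
    intro a _
    by_cases ha : a = 0
    · simp [ha]
    · simp [hcon a ha]
  have h2 := (Finset.card_le_card h1).trans Finset.card_le_two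
  rw [Finset.card_univ, hF] at h2
  omega

omit [CharP F 2] in
/-- **`G₂(8)`.** -/
theorem meet3_G2_eight (hF : Fintype.card F = 8) : Meet 3 ↥(chevG2.group F) := by
  have h3p : Fact (Nat.Prime 3) := ⟨Nat.prime_three⟩
  have h2p : Fact (Nat.Prime 2) := ⟨Nat.prime_two⟩
  have hchar := SL8.charTwo hF
  have hp := BpExc.RowsUntw.g2T
  obtain ⟨hs, hT⟩ := Cfsg.Agent.S1055.result (F := F) (exists_ne_of_card hF)
  have hsl := SL8.simple hF
  have hρ := rh_injective (F := F) hp.inList hF orthG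
  have hout : Nat.card (Cfsg.Out ↥(chevG2.group F)) = 3 := by
    rw [Cfsg.Agent.S2121.result (F := F) 2 3 (by rw [hF]; norm_num) (by norm_num), if_neg (by norm_num)]
  have hcard : padicValNat 3 (Nat.card ↥(chevG2.group F)) = 5 := by
    rw [Cfsg.Agent.S1059.result hF, show 8 ^ 6 * (8 ^ 2 - 1) * (8 ^ 6 - 1) = 3 ^ 5 * 17816092672 by norm_num,
      padicValNat.mul (by norm_num) (by norm_num), padicValNat.prime_pow,
      padicValNat.eq_zero_of_not_dvd (by norm_num)]
  have hpad3 : padicValNat 3 3 = 1 := padicValNat_self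
  have hQmem : ∀ q ∈ Subgroup.zpowers (ph chevG2 F), ∃ m : ℕ, q = ph chevG2 F ^ m := by
    intro q hq
    rw [← mem_powers_iff_mem_zpowers] at hq
    obtain ⟨m, hm⟩ := hq
    exact ⟨m, hm.symm⟩
  have hinn : ∀ f : Fin 2 → SL, MulAut.conj (rh hp.inList F orthG f) ∈ Cfsg.Inn ↥(chevG2.group F) :=
    fun f => ⟨_, rfl⟩
  obtain ⟨P, h1, h2, h3⟩ : ∃ P : Sylow 3 (MulAut ↥(chevG2.group F)),
      (∀ f : Fin 2 → SL, (∀ i, f i ∈ SL8.C F) → MulAut.conj (rh hp.inList F orthG f) ∈ P) ∧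
      Subgroup.zpowers (ph chevG2 F) ≤ P ∧ ∀ y ∈ P, NormS (SL8.C F) (rh hp.inList F orthG) y := by
    refine exists_P hT hρ (SL8.card_C hF)
      (fun a ha b hb => SL8.comm_C ha hb) (Subgroup.zpowers (ph chevG2 F)) (e := 1) (k := 3 ^ 2) ?_ ?_ ?_ ?_ ?_ ?_
    · intro q hq
      obtain ⟨m, rfl⟩ := hQmem q hq
      exact normS_of_act ((act_ph hp.inList orthG).pow_one m) fun _ => φ₀_pow_mem m
    · intro q hq f _ he
      obtain ⟨m, rfl⟩ := hQmem q hq
      exact ph_pow_inn hp.inList (i₀ := (0 : Fin 2)) frG hF (he ▸ hinn f)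
    · rw [Nat.card_zpowers, pow_one]
      refine orderOf_eq_prime (ph_cube hF) ?_
      intro h
      exact ph_not_inn hp.inList (i₀ := (0 : Fin 2)) frG hF (h ▸ one_mem _)
    · intro q hq hq1
      obtain ⟨m, rfl⟩ := hQmem q hq
      exact card_fix_ph hp.inList orthG hF hq1
    · norm_num
    · intro P
      rw [H172.SI.card_sylow hT P, hcard, hout, hpad3]
      norm_num
  apply meet_of_sylow P
  exact core_two (SL8.not_comm hF) (SL8.meet hF) (SL8.hgen hF) perm_two hρ P.isPGroup' h3 h1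
    (cent (i₀ := (0 : Fin 2)) hp.inList frG hp CentX.okG orthG hF hT (by rw [hout]; norm_num) P.isPGroup'
      (h2 (Subgroup.mem_zpowers _)))

end g2

/-! ### `F₄(8)` -/

section f4

theorem orthF : Orth chevF4 CentX.θF := by decide +kernel

theorem frF : Fr chevF4 (CentX.θF 0) ⟨0, by decide +kernel⟩ where
  lt := by decide +kernel
  chk := by decide +kernel
  neg := by decide +kernel
  ne := by decide +kernel
  odd := by decide +kernel

theorem neg_eq' (t : F) : -t = t := CharTwo.neg_eq t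

/-- the element `n` of a fundamental root -/
def nq (i : ℕ) : ↥(D.group F) := xq hD (D.simple i) 1 * (xq hD (D.neg (D.simple i)) 1 * xq hD (D.simple i) 1)

theorem nq_conj {i s : ℕ} (hi : i < D.rank) (hs : s < D.nroots) (t : F) :
    nq hD i * xq hD s t = xq hD (D.reflectRoot i s) t * nq hD i := by
  obtain ⟨η, hη, h⟩ := Cfsg.Agent.S1031.result (F := F) D hD i s hi hs
  have h1 : ((nq (F := F) hD i : ↥(D.group F)) : GL D.Idx F) = nG hD (D.simple i) 1 := by
    rw [nG_def]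
    unfold nq xq
    rw [inv_one, neg_eq']
    rfl
  have h2 : ((η : F) * t) = t := by
    rcases hη with rfl | rfl
    · rw [Int.cast_one, one_mul]
    · rw [Int.cast_neg, Int.cast_one, neg_one_mul, neg_eq']
  apply Subtype.ext
  rw [Subgroup.coe_mul, Subgroup.coe_mul, h1]
  apply Units.ext
  have h3 := h t
  rw [h2] at h3
  rw [Units.val_mul, Units.val_mul, coe_nG]
  exact h3

theorem ph_nq (i : ℕ) : ph D F (nq hD i) = nq hD i := by
  unfold nq
  rw [map_mul, map_mul, ph_xq, ph_xq, one_pow]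

/-- an automorphism which fixes the root elements -/
theorem eq_one_of_fix {y : MulAut ↥(D.group F)} (h : ∀ s < D.nroots, ∀ t, y (xq hD s t) = xq hD s t) : y = 1 := by
  have h1 : (MonoidHom.eqLocus y.toMonoidHom (MonoidHom.id _)).map (D.group F).subtype = D.group F := by
    apply le_antisymm
    · rintro _ ⟨g, -, rfl⟩
      exact g.2
    · refine (ChevalleyStructure.Elts.group_le_iff hD _).2 ?_
      intro r hr t
      exact ⟨xq hD r t, h r hr t, rfl⟩
  apply MulEquiv.ext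
  intro g
  have h2 : (g : GL D.Idx F) ∈ (MonoidHom.eqLocus y.toMonoidHom (MonoidHom.id _)).map (D.group F).subtype := by
    rw [h1]
    exact g.2
  obtain ⟨g', hg', he⟩ := h2
  have h3 : g' = g := Subtype.ext he
  rw [← h3]
  exact hg'

variable (F) in
/-- the automorphism of order 3 -/
noncomputable def bb : MulAut ↥(chevF4.group F) :=
  MulAut.conj (nq BpExc.RowsUntw.f4T.inList 0 * nq BpExc.RowsUntw.f4T.inList 1)

/-- the permutation of the roots -/
def wF (s : ℕ) : ℕ := chevF4.reflectRoot 0 (chevF4.reflectRoot 1 s)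

theorem wF_lt : (∀ s < chevF4.nroots, chevF4.reflectRoot 1 s < chevF4.nroots) ∧ (∀ s < chevF4.nroots, wF s < chevF4.nroots) ∧
    ∀ s < chevF4.nroots, wF (wF (wF s)) = s := by decide +kernel

theorem wF_θ : (∀ i, wF (CentX.θF i) = CentX.θF (cyc i)) ∧ ∀ i, wF (chevF4.neg (CentX.θF i)) = chevF4.neg (CentX.θF (cyc i)) := by
  decide +kernel

theorem bb_xq {s : ℕ} (hs : s < chevF4.nroots) (t : F) :
    bb F (xq BpExc.RowsUntw.f4T.inList s t) = xq BpExc.RowsUntw.f4T.inList (wF s) t := by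
  unfold bb
  rw [MulAut.conj_apply, mul_inv_eq_iff_eq_mul, mul_assoc, nq_conj _ (by decide +kernel) hs, ← mul_assoc,
    nq_conj _ (by decide +kernel) (wF_lt.1 s hs), mul_assoc]
  rfl

theorem bb_cube : bb F ^ 3 = 1 := by
  apply eq_one_of_fix BpExc.RowsUntw.f4T.inList
  intro s hs t
  rw [pow_succ, sq, MulAut.mul_apply, MulAut.mul_apply, bb_xq hs, bb_xq (wF_lt.2.1 s hs),
    bb_xq (wF_lt.2.1 _ (wF_lt.2.1 s hs)), wF_lt.2.2 s hs]

theorem ph_bb : bb F * ph chevF4 F = ph chevF4 F * bb F := by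
  have h1 : ph chevF4 F * bb F * (ph chevF4 F)⁻¹ = bb F := by
    unfold bb
    rw [conj_conj, map_mul, ph_nq, ph_nq]
  rw [mul_inv_eq_iff_eq_mul] at h1
  exact h1.symm

theorem act_bb : Act (rh BpExc.RowsUntw.f4T.inList F orthF) (bb F) cyc 1 := by
  apply act_of_gen (α := 1)
  · intro i t
    rw [ri_up', bb_xq (orthF.1 i), wF_θ.1, MulAut.one_apply, ri_up']
  · intro i t
    rw [ri_lo', bb_xq (orthF.2.1 i), wF_θ.2, MulAut.one_apply, ri_lo']

theorem act_bb_pow (j : ℕ) : Act (rh BpExc.RowsUntw.f4T.inList F orthF) (bb F ^ j) (cyc ^ j) 1 := by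
  induction j with
  | zero => exact Act.one
  | succ j ih =>
    have h := ih.mul (act_bb (F := F))
    have e : (fun k => (1 : Fin 4 → MulAut SL) k * (1 : Fin 4 → MulAut SL) ((cyc ^ j).symm k)) = 1 := by
      funext k
      rw [Pi.one_apply, Pi.one_apply, one_mul]
    rw [e] at h
    rw [pow_succ, pow_succ]
    exact h

theorem act_Q (i j : ℕ) : Act (rh BpExc.RowsUntw.f4T.inList F orthF) (ph chevF4 F ^ i * bb F ^ j) (cyc ^ j)
    fun _ => φ₀ ^ i := by
  have h := ((act_ph (F := F) BpExc.RowsUntw.f4T.inList orthF).pow_one i).mul (act_bb_pow (F := F) j)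
  rw [one_mul] at h
  have e : (fun k => ((fun _ => φ₀ : Fin 4 → MulAut SL) ^ i) k *
      (1 : Fin 4 → MulAut SL) ((1 : Equiv.Perm (Fin 4)).symm k)) = fun _ => φ₀ ^ i := by
    funext k
    rw [Pi.one_apply, mul_one]
    rfl
  rw [e] at h
  exact h

theorem bb_pow_cases (j : ℕ) : (bb F ^ j = 1 ∧ cyc ^ j = 1) ∨ cyc ^ j = cyc ∨ cyc ^ j = cyc ^ 2 := by
  have hc : cyc ^ 3 = 1 := by decide
  have h8 : bb F ^ j = bb F ^ (j % 3) := by
    conv_lhs => rw [← Nat.div_add_mod j 3, pow_add, pow_mul, bb_cube, one_pow, one_mul]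
  have h9 : cyc ^ j = cyc ^ (j % 3) := by
    conv_lhs => rw [← Nat.div_add_mod j 3, pow_add, pow_mul, hc, one_pow, one_mul]
  rw [h8, h9]
  rcases (by omega : j % 3 = 0 ∨ j % 3 = 1 ∨ j % 3 = 2) with h | h | h
  · left; rw [h]; exact ⟨pow_zero _, pow_zero _⟩
  · right; left; rw [h, pow_one]
  · right; right; rw [h]

theorem cyc_ne : cyc ≠ 1 ∧ cyc ^ 2 ≠ 1 := by decide

theorem bb_pow_eq_one {j : ℕ} (h : cyc ^ j = 1) : bb F ^ j = 1 := by
  rcases bb_pow_cases (F := F) j with h1 | h1 | h1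
  · exact h1.1
  · exact absurd (h1.symm.trans h) cyc_ne.1
  · exact absurd (h1.symm.trans h) cyc_ne.2

/-- fixed points of the elements which move the factors -/
theorem card_fix_Q (hF : Fintype.card F = 8) (i : ℕ) {j : ℕ} (hj : cyc ^ j = cyc ∨ cyc ^ j = cyc ^ 2) :
    Nat.card {f : Fin 4 → SL // (∀ k, f k ∈ SL8.C F) ∧
      (ph chevF4 F ^ i * bb F ^ j) (rh BpExc.RowsUntw.f4T.inList F orthF f) = rh BpExc.RowsUntw.f4T.inList F orthF f} ≤
      81 := by
  have hinj := rh_injective (F := F) BpExc.RowsUntw.f4T.inList hF orthF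
  have hfix : ∀ f : Fin 4 → SL, (ph chevF4 F ^ i * bb F ^ j) (rh BpExc.RowsUntw.f4T.inList F orthF f) =
      rh BpExc.RowsUntw.f4T.inList F orthF f → ∀ k, (φ₀ ^ i) (f ((cyc ^ j).symm k)) = f k := by
    intro f hf k
    rw [act_Q] at hf
    exact congrFun (hinj hf) k
  have h81 : Nat.card (SL8.C F × SL8.C F) = 81 := by
    rw [Nat.card_prod, SL8.card_C hF]
  rw [← h81]
  refine Nat.card_le_card_of_injective (fun f => (⟨f.1 0, f.2.1 0⟩, ⟨f.1 1, f.2.1 1⟩)) ?_
  rintro ⟨f, hfC, hf⟩ ⟨g, hgC, hg⟩ h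
  have h0 : f 0 = g 0 := congrArg (fun z : SL8.C F × SL8.C F => (z.1 : SL)) h
  have h1 : f 1 = g 1 := congrArg (fun z : SL8.C F × SL8.C F => (z.2 : SL)) h
  have hf' := hfix f hf
  have hg' := hfix g hg
  apply Subtype.ext
  change f = g
  rcases hj with hj | hj
  · rw [hj] at hf' hg'
    have e2 : cyc.symm 2 = 1 := by decide
    have e3 : cyc.symm 3 = 2 := by decide
    have h2 : f 2 = g 2 := by rw [← hf' 2, ← hg' 2, e2, h1]
    have h3 : f 3 = g 3 := by rw [← hf' 3, ← hg' 3, e3, h2]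
    funext k
    fin_cases k
    · exact h0
    · exact h1
    · exact h2
    · exact h3
  · rw [hj] at hf' hg'
    have e3 : (cyc ^ 2).symm 3 = 1 := by decide
    have e2 : (cyc ^ 2).symm 2 = 3 := by decide
    have h3 : f 3 = g 3 := by rw [← hf' 3, ← hg' 3, e3, h1]
    have h2 : f 2 = g 2 := by rw [← hf' 2, ← hg' 2, e2, h3]
    funext k
    fin_cases k
    · exact h0
    · exact h1
    · exact h2
    · exact h3

omit [CharP F 2] in
/-- **`F₄(8)`.** -/
theorem meet3_F4_eight (hF : Fintype.card F = 8) : Meet 3 ↥(chevF4.group F) := by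
  have h3p : Fact (Nat.Prime 3) := ⟨Nat.prime_three⟩
  have h2p : Fact (Nat.Prime 2) := ⟨Nat.prime_two⟩
  have hchar := SL8.charTwo hF
  have hp := BpExc.RowsUntw.f4T
  obtain ⟨hs, hT⟩ := Cfsg.Agent.S1054.result (F := F) chevF4 (by simp)
  have hsl := SL8.simple hF
  have hρ := rh_injective (F := F) hp.inList hF orthF
  have hout : Nat.card (Cfsg.Out ↥(chevF4.group F)) = 6 := by
    rw [Cfsg.Agent.S2122.result (F := F) 2 3 (by rw [hF]; norm_num)]
    norm_num
  have hcard : padicValNat 3 (Nat.card ↥(chevF4.group F)) = 10 := by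
    rw [Cfsg.Agent.S1062.result hF, show 8 ^ 24 * (8 ^ 2 - 1) * (8 ^ 6 - 1) * (8 ^ 8 - 1) * (8 ^ 12 - 1) =
        3 ^ 10 * 1522739695424381922230925386230169757286400 by norm_num,
      padicValNat.mul (by norm_num) (by norm_num), padicValNat.prime_pow,
      padicValNat.eq_zero_of_not_dvd (by norm_num)]
  have hpad6 : padicValNat 3 6 = 1 := by
    rw [show 6 = 3 * 2 by norm_num, padicValNat.mul (by norm_num) (by norm_num), padicValNat_self,
      padicValNat.eq_zero_of_not_dvd (by norm_num)]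
  have hpow : ∀ {q x : MulAut ↥(chevF4.group F)}, x ^ 3 = 1 → q ∈ Subgroup.zpowers x → ∃ m : ℕ, q = x ^ m := by
    intro q x _ hq
    rw [← mem_powers_iff_mem_zpowers] at hq
    obtain ⟨m, hm⟩ := hq
    exact ⟨m, hm.symm⟩
  have hcomm : ∀ i j : ℕ, bb F ^ j * ph chevF4 F ^ i = ph chevF4 F ^ i * bb F ^ j := fun i j =>
    (Commute.pow_pow (show Commute (bb F) (ph chevF4 F) from ph_bb) j i).eq
  have hQn : ∀ k ∈ Subgroup.zpowers (bb F), ∀ m ∈ Subgroup.zpowers (ph chevF4 F), k * m * k⁻¹ ∈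
      Subgroup.zpowers (ph chevF4 F) := by
    intro k hk m hm
    obtain ⟨j, rfl⟩ := hpow bb_cube hk
    obtain ⟨i, rfl⟩ := hpow (ph_cube hF) hm
    rw [hcomm, mul_assoc, mul_inv_cancel, mul_one]
    exact hm
  let Q := Subgroup.zpowers (ph chevF4 F) ⊔ Subgroup.zpowers (bb F)
  have hQmem : ∀ q ∈ Q, ∃ i j : ℕ, q = ph chevF4 F ^ i * bb F ^ j := by
    intro q hq
    obtain ⟨n, hn, k, hk, rfl⟩ := (mem_sup_norm hQn).1 hq
    obtain ⟨j, rfl⟩ := hpow bb_cube hk
    obtain ⟨i, rfl⟩ := hpow (ph_cube hF) hn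
    exact ⟨i, j, rfl⟩
  have hinn : ∀ f : Fin 4 → SL, MulAut.conj (rh hp.inList F orthF f) ∈ Cfsg.Inn ↥(chevF4.group F) :=
    fun f => ⟨_, rfl⟩
  have hQcard : Nat.card Q = 3 ^ 2 := by
    have h1 : orderOf (ph chevF4 F) = 3 := by
      refine orderOf_eq_prime (ph_cube hF) ?_
      intro h
      exact ph_not_inn hp.inList (i₀ := (0 : Fin 4)) frF hF (h ▸ one_mem _)
    have h2 : orderOf (bb F) = 3 := by
      refine orderOf_eq_prime bb_cube ?_
      intro h
      have h3 := act_bb (F := F)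
      rw [h] at h3
      exact cyc_ne.1 (h3.unique hρ Act.one).1
    change Nat.card ↥(Subgroup.zpowers (ph chevF4 F) ⊔ Subgroup.zpowers (bb F)) = 3 ^ 2
    rw [card_sup_norm hQn, Nat.card_zpowers, Nat.card_zpowers, h1, h2]
    · norm_num
    · intro x hx hx'
      obtain ⟨j, hj⟩ := hpow bb_cube hx'
      obtain ⟨i, hi⟩ := hpow (ph_cube hF) hx
      have h3 := act_bb_pow (F := F) j
      have h4 := (act_ph (F := F) hp.inList orthF).pow_one i
      rw [← hj] at h3
      rw [← hi] at h4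
      rw [hj]
      exact bb_pow_eq_one (h3.unique hρ h4).1
  obtain ⟨P, h1, h2, h3⟩ : ∃ P : Sylow 3 (MulAut ↥(chevF4.group F)),
      (∀ f : Fin 4 → SL, (∀ i, f i ∈ SL8.C F) → MulAut.conj (rh hp.inList F orthF f) ∈ P) ∧
      Q ≤ P ∧ ∀ y ∈ P, NormS (SL8.C F) (rh hp.inList F orthF) y := by
    refine exists_P hT hρ (SL8.card_C hF)
      (fun a ha b hb => SL8.comm_C ha hb) Q (e := 2) (k := 81) ?_ ?_ hQcard ?_ ?_ ?_
    · intro q hq
      obtain ⟨i, j, rfl⟩ := hQmem q hq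
      exact normS_of_act (act_Q i j) fun _ => φ₀_pow_mem i
    · intro q hq f _ he
      obtain ⟨i, j, rfl⟩ := hQmem q hq
      have h5 := Act.conj (ρ := rh hp.inList F orthF) f
      rw [he] at h5
      have h6 := bb_pow_eq_one (F := F) ((act_Q i j).unique hρ h5).1
      rw [h6, mul_one]
      rw [h6, mul_one] at he
      exact ph_pow_inn hp.inList (i₀ := (0 : Fin 4)) frF hF (he ▸ hinn f)
    · intro q hq hq1
      obtain ⟨i, j, rfl⟩ := hQmem q hq
      rcases bb_pow_cases (F := F) j with h | h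
      · rw [h.1, mul_one] at hq1 ⊢
        exact card_fix_ph hp.inList orthF hF hq1
      · exact card_fix_Q hF i h
    · norm_num
    · intro P
      rw [H172.SI.card_sylow hT P, hcard, hout, hpad6]
      norm_num
  have hφP : ph chevF4 F ∈ P := h2 (Subgroup.mem_sup_left (Subgroup.mem_zpowers _))
  have hbP : bb F ∈ P := h2 (Subgroup.mem_sup_right (Subgroup.mem_zpowers _))
  apply meet_of_sylow P
  exact core_four (SL8.not_comm hF) (SL8.meet hF) (SL8.hgen hF) (SL8.huniq hF) SL8.W_sq SL8.W_ne_one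
    (fun c hc => SL8.W_conj hc) SL8.φ₀_W hρ P.isPGroup' h3 h1
    (cent (i₀ := (0 : Fin 4)) hp.inList frF hp CentX.okF orthF hF hT (by rw [hout]) P.isPGroup' hφP)
    hφP (act_ph hp.inList orthF) hbP act_bb

end f4

end Cfsg.Agent.H134.Syl.Ch8
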