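import Cfsg.Agent.H134.Syl.Core
import Cfsg.Agent.H743.MeetPslThree
import Cfsg.Agent.H172.SIBase
import Cfsg.Agent.WeakTI.PslTwo

/-!
# Facts about `SL₂(8)` (helper134, for S2484 and S5760)
-/

set_option autoImplicit false
set_option linter.unusedSectionVars false
set_option linter.unusedSimpArgs false

namespace Cfsg.Agent.H134.Syl.SL8

open Matrix
open Cfsg.Agent.ClassicalGeometry.AutPSL.Auto
open Cfsg.Agent.H903.SylMeet

variable {F : Type} [Field F] [Fintype F]

local notation "SL" => Matrix.SpecialLinearGroup (Fin 2) F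

theorem charTwo (hF : Fintype.card F = 8) : CharP F 2 := by
  obtain ⟨r, hr⟩ := CharP.exists F
  obtain ⟨n, hp, hn⟩ := FiniteField.card F r
  have h1 : r ∣ 2 ^ 3 := by
    rw [show (2 : ℕ) ^ 3 = 8 by norm_num, ← hF, hn]
    exact dvd_pow_self r n.ne_zero
  have h2 := (Nat.prime_dvd_prime_iff_eq hp Nat.prime_two).1 (hp.dvd_of_dvd_pow h1)
  subst h2
  exact hr

theorem pow_eight (hF : Fintype.card F = 8) (t : F) : t ^ 8 = t := by
  rw [← hF]
  exact FiniteField.pow_card t

section two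

variable [CharP F 2]

theorem two_zero : (2 : F) = 0 := CharTwo.two_eq_zero

/-- the Frobenius automorphism -/
noncomputable def τ : F ≃+* F := frobeniusEquiv F 2

theorem τ_apply (t : F) : τ t = t ^ 2 := rfl

theorem τ_cube (hF : Fintype.card F = 8) : (τ : F ≃+* F) ^ 3 = 1 := by
  ext t
  change ((t ^ 2) ^ 2) ^ 2 = t
  rw [← pow_mul, ← pow_mul]
  exact pow_eight hF t

/-- the field automorphism -/
noncomputable def φ₀ : MulAut SL := fld τ

theorem φ₀_apply (g : SL) (i j : Fin 2) : (φ₀ g).1 i j = g.1 i j ^ 2 := rfl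

theorem φ₀_cube (hF : Fintype.card F = 8) : (φ₀ : MulAut SL) ^ 3 = 1 := by
  unfold φ₀
  rw [← map_pow, τ_cube hF, map_one]

variable (F) in
/-- the element of order 3 -/
def Z : SL := ⟨!![0, 1; 1, 1], by rw [det_fin_two_of]; linear_combination (-1) * (two_zero (F := F))⟩

variable (F) in
/-- an involution inverting `Z` -/
def W : SL := ⟨!![0, 1; 1, 0], by rw [det_fin_two_of]; linear_combination (-1) * (two_zero (F := F))⟩

variable (F) in
/-- the torus -/
def C : Subgroup SL := Subgroup.centralizer {Z F}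

theorem ext2 {g h : SL} (h00 : g.1 0 0 = h.1 0 0) (h01 : g.1 0 1 = h.1 0 1) (h10 : g.1 1 0 = h.1 1 0)
    (h11 : g.1 1 1 = h.1 1 1) : g = h := by
  apply Subtype.ext
  ext i j
  fin_cases i <;> fin_cases j
  · exact h00
  · exact h01
  · exact h10
  · exact h11

theorem mul00 (g h : SL) : (g * h).1 0 0 = g.1 0 0 * h.1 0 0 + g.1 0 1 * h.1 1 0 := by
  rw [show (g * h).1 = g.1 * h.1 from rfl, Matrix.mul_apply, Fin.sum_univ_two]

theorem mul01 (g h : SL) : (g * h).1 0 1 = g.1 0 0 * h.1 0 1 + g.1 0 1 * h.1 1 1 := by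
  rw [show (g * h).1 = g.1 * h.1 from rfl, Matrix.mul_apply, Fin.sum_univ_two]

theorem mul10 (g h : SL) : (g * h).1 1 0 = g.1 1 0 * h.1 0 0 + g.1 1 1 * h.1 1 0 := by
  rw [show (g * h).1 = g.1 * h.1 from rfl, Matrix.mul_apply, Fin.sum_univ_two]

theorem mul11 (g h : SL) : (g * h).1 1 1 = g.1 1 0 * h.1 0 1 + g.1 1 1 * h.1 1 1 := by
  rw [show (g * h).1 = g.1 * h.1 from rfl, Matrix.mul_apply, Fin.sum_univ_two]

theorem Z00 : (Z F).1 0 0 = 0 := rfl
theorem Z01 : (Z F).1 0 1 = 1 := rfl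
theorem Z10 : (Z F).1 1 0 = 1 := rfl
theorem Z11 : (Z F).1 1 1 = 1 := rfl
theorem W00 : (W F).1 0 0 = 0 := rfl
theorem W01 : (W F).1 0 1 = 1 := rfl
theorem W10 : (W F).1 1 0 = 1 := rfl
theorem W11 : (W F).1 1 1 = 0 := rfl

theorem mem_C {g : SL} : g ∈ C F ↔ g.1 0 1 = g.1 1 0 ∧ g.1 1 1 = g.1 0 0 + g.1 1 0 := by
  have h2 := two_zero (F := F)
  have h0 : g ∈ C F ↔ Z F * g = g * Z F := by
    unfold C
    rw [Subgroup.mem_centralizer_iff]
    simp
  rw [h0]
  constructor
  · intro h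
    have h1 := congrArg (fun x : SL => x.1 0 0) h
    have h3 := congrArg (fun x : SL => x.1 1 0) h
    simp only [mul00, mul10, Z00, Z01, Z10, Z11] at h1 h3
    constructor
    · linear_combination -h1
    · linear_combination -h3
  · rintro ⟨h1, h3⟩
    apply ext2
    · simp only [mul00, Z00, Z01, Z10]; linear_combination -h1
    · simp only [mul01, Z00, Z01, Z11]; linear_combination h3 - h1
    · simp only [mul10, Z00, Z10, Z11]; linear_combination -h3
    · simp only [mul11, Z01, Z10, Z11]; linear_combination h1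

theorem comm_C {g h : SL} (hg : g ∈ C F) (hh : h ∈ C F) : g * h = h * g := by
  rw [mem_C] at hg hh
  obtain ⟨g1, g2⟩ := hg
  obtain ⟨h1, h2⟩ := hh
  apply ext2
  · simp only [mul00]; rw [g1, h1]; ring
  · simp only [mul01]; rw [g1, h1, g2, h2]; ring
  · simp only [mul10]; rw [g2, h2]; ring
  · simp only [mul11]; rw [g1, h1, g2, h2]; ring

theorem det_C {g : SL} (hg : g ∈ C F) : g.1 0 0 ^ 2 + g.1 0 0 * g.1 1 0 + g.1 1 0 ^ 2 = 1 := by
  have h := g.2
  rw [mem_C] at hg
  obtain ⟨g1, g2⟩ := hg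
  rw [det_fin_two, g1, g2] at h
  linear_combination h + g.1 1 0 ^ 2 * two_zero (F := F)

theorem ext_C {g h : SL} (hg : g ∈ C F) (hh : h ∈ C F) (h0 : g.1 0 0 = h.1 0 0) (h1 : g.1 1 0 = h.1 1 0) : g = h := by
  rw [mem_C] at hg hh
  exact ext2 h0 (by rw [hg.1, hh.1, h1]) h1 (by rw [hg.2, hh.2, h0, h1])

theorem W_sq : W F ^ 2 = 1 := by
  rw [sq]
  apply ext2
  · simp only [mul00, W00, W01, W10]; simp
  · simp only [mul01, W00, W01, W11]; simp
  · simp only [mul10, W00, W10, W11]; simp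
  · simp only [mul11, W01, W10, W11]; simp

theorem W_ne_one : W F ≠ 1 := by
  intro h
  have := congrArg (fun x : SL => x.1 0 1) h
  simp [W] at this

theorem W_inv : (W F)⁻¹ = W F := inv_eq_of_mul_eq_one_left (by rw [← sq, W_sq])

theorem W_conj {c : SL} (hc : c ∈ C F) : (W F)⁻¹ * c * W F ∈ C F := by
  rw [W_inv, mem_C]
  rw [mem_C] at hc
  obtain ⟨h1, h3⟩ := hc
  simp only [mul00, mul01, mul10, mul11, W00, W01, W10, W11]
  rw [h1, h3]
  refine ⟨by ring, ?_⟩
  linear_combination (-c.1 1 0) * two_zero (F := F)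

theorem φ₀_W : φ₀ (W F) = W F := by
  apply ext2
  · rw [φ₀_apply, W00]; simp
  · rw [φ₀_apply, W01]; simp
  · rw [φ₀_apply, W10]; simp
  · rw [φ₀_apply, W11]; simp

theorem φ₀_mem {c : SL} (hc : c ∈ C F) : φ₀ c ∈ C F := by
  rw [mem_C] at hc ⊢
  simp only [φ₀_apply]
  rw [hc.1, hc.2]
  refine ⟨rfl, ?_⟩
  linear_combination (c.1 0 0 * c.1 1 0) * two_zero (F := F)

theorem eq_one_of_comm_W {c : SL} (hc : c ∈ C F) (h : c * W F = W F * c) : c = 1 := by
  have h1 := congrArg (fun x : SL => x.1 0 1) h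
  have h3 := (mem_C.1 hc)
  simp only [mul01, W00, W01, W11] at h1
  have h4 : c.1 1 0 = 0 := by
    rw [h3.2] at h1
    linear_combination -h1
  have h5 := det_C hc
  rw [h4] at h5
  have h6 : c.1 0 0 = 1 := by
    have : (c.1 0 0 - 1) ^ 2 = 0 := by
      linear_combination h5 + (1 - c.1 0 0) * two_zero (F := F)
    have := pow_eq_zero_iff (two_ne_zero) |>.1 this
    linear_combination this
  exact ext_C hc (C F).one_mem (by rw [h6]; rfl) (by rw [h4]; rfl)

end two

section eight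

theorem equiv (hF : Fintype.card F = 8) :
    Nonempty (SL ≃* Matrix.ProjectiveSpecialLinearGroup (Fin 2) F) := by
  have := charTwo hF
  exact Cfsg.Agent.WeakTI.PslTwo.nonempty_equiv (F := F)

theorem card_SL (hF : Fintype.card F = 8) : Nat.card SL = 504 := by
  rw [Cfsg.Agent.ClassicalGeometry.PSL2Basic.card_SL2, hF]
  norm_num

theorem simple (hF : Fintype.card F = 8) : IsSimpleGroup SL := by
  obtain ⟨e⟩ := equiv hF
  have h1 : IsSimpleGroup (Matrix.ProjectiveSpecialLinearGroup (Fin 2) F) :=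
    TwoFusion.SLTwoFacts.isSimpleGroup_psl (F := F) (by omega)
  have : Nontrivial SL := e.toEquiv.nontrivial
  exact IsSimpleGroup.isSimpleGroup_of_surjective e.symm.toMonoidHom e.symm.surjective

theorem not_comm (hF : Fintype.card F = 8) : ¬ IsMulCommutative SL := by
  obtain ⟨e⟩ := equiv hF
  intro h
  apply H743.MeetPslThree.not_comm (F := F) (by omega)
  refine ⟨⟨fun a b => ?_⟩⟩
  apply e.symm.injective
  rw [map_mul, map_mul, h.is_comm.comm]

theorem meet (hF : Fintype.card F = 8) : Meet 3 SL := by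
  obtain ⟨e⟩ := equiv hF
  exact Meet.congr e.symm (H743.MeetPslThree.meet3_PSL2 (F := F) (by omega))

theorem card_mulAut (hF : Fintype.card F = 8) : Nat.card (MulAut SL) = 1512 := by
  obtain ⟨e⟩ := equiv hF
  have h1 : IsSimpleGroup (Matrix.ProjectiveSpecialLinearGroup (Fin 2) F) :=
    TwoFusion.SLTwoFacts.isSimpleGroup_psl (F := F) (by omega)
  rw [Nat.card_congr (MulAut.congr e).toEquiv, H172.SI.card_mulAut (H743.MeetPslThree.not_comm (by omega)),
    ← Nat.card_congr e.toEquiv, card_SL hF,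
    H743.MeetPslThree.card_out (r := 2) (f := 3) Nat.prime_two (by norm_num) (by rw [hF]; norm_num) (by omega), hF]
  norm_num

theorem index_le (hF : Fintype.card F = 8) (H : Subgroup SL) (hH : H ≠ ⊤) : 9 ≤ H.index := by
  obtain ⟨e⟩ := equiv hF
  have h1 := (S0806.result (F := F) hF (by decide)).1 (H.comap e.symm.toMonoidHom) (by
    intro h
    apply hH
    rw [eq_top_iff]
    intro x _
    have h2 : e x ∈ H.comap e.symm.toMonoidHom := h ▸ Subgroup.mem_top _
    rw [Subgroup.mem_comap] at h2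
    simpa using h2)
  rwa [Subgroup.index_comap_of_surjective _ e.symm.surjective] at h1

theorem card_C [CharP F 2] (hF : Fintype.card F = 8) : Nat.card (C F) = 9 := by
  classical
  have h3p : Fact (Nat.Prime 3) := ⟨Nat.prime_three⟩
  have h2 := two_zero (F := F)
  -- the bound
  let S : Finset (F × F) := Finset.univ.filter fun p => p.1 ^ 2 + p.1 * p.2 + p.2 ^ 2 = 1
  have hS : S.card ≤ 2 * (S.image Prod.snd).card := by
    apply Finset.card_le_mul_card_image
    intro b hb
    obtain ⟨⟨a, b'⟩, hab, he⟩ := Finset.mem_image.1 hb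
    simp only at he
    subst he
    have hsub : {x ∈ S | x.2 = b'} ⊆ ({(a, b'), (a + b', b')} : Finset (F × F)) := by
      rintro ⟨c, d⟩ hcd
      rw [Finset.mem_filter] at hcd
      obtain ⟨hc, hd⟩ := hcd
      simp only at hd
      subst hd
      simp only [S, Finset.mem_filter, Finset.mem_univ, true_and] at hab hc
      have h4 : (c - a) * (c - (a + d)) = 0 := by
        linear_combination hc - hab + (-(a * c) + a ^ 2 - c * d + a * d) * h2
      rcases mul_eq_zero.1 h4 with h5 | h5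
      · simp [sub_eq_zero.1 h5]
      · simp [sub_eq_zero.1 h5]
    exact (Finset.card_le_card hsub).trans Finset.card_le_two
  have hS2 : (S.image Prod.snd).card ≤ 8 := by
    rw [← hF]
    exact Finset.card_le_univ _
  have hle : Nat.card (C F) ≤ 16 := by
    have h4 : Nat.card (C F) ≤ S.card := by
      rw [← Fintype.card_coe, ← Nat.card_eq_fintype_card]
      exact Nat.card_le_card_of_injective (fun g : C F => (⟨(g.1.1 0 0, g.1.1 1 0), by
        simp [S, det_C g.2]⟩ : {p // p ∈ S})) (by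
        intro g h hgh
        have h5 := congrArg (fun z : {p // p ∈ S} => (z : F × F)) hgh
        simp only [Prod.mk.injEq] at h5
        exact Subtype.ext (ext_C g.2 h.2 h5.1 h5.2))
    omega
  -- divisibility
  have hZ3 : Z F ^ 3 = 1 := by
    rw [pow_succ, sq]
    apply ext2
    · simp only [mul00, mul01, mul10, mul11, Z00, Z01, Z10, Z11]; simp
    · simp only [mul00, mul01, mul10, mul11, Z00, Z01, Z10, Z11]
      rw [show ((1 : SL).1 0 1 : F) = 0 from rfl]
      linear_combination h2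
    · simp only [mul00, mul01, mul10, mul11, Z00, Z01, Z10, Z11]
      rw [show ((1 : SL).1 1 0 : F) = 0 from rfl]
      linear_combination h2
    · simp only [mul00, mul01, mul10, mul11, Z00, Z01, Z10, Z11]
      rw [show ((1 : SL).1 1 1 : F) = 1 from rfl]
      linear_combination h2
  have hp : IsPGroup 3 (Subgroup.zpowers (Z F)) := by
    rintro ⟨x, hx⟩
    obtain ⟨k, rfl⟩ := hx
    refine ⟨1, Subtype.ext ?_⟩
    change (Z F ^ k) ^ 3 ^ 1 = 1
    rw [pow_one, ← zpow_natCast, ← _root_.zpow_mul, mul_comm, _root_.zpow_mul, zpow_natCast, hZ3, _root_.one_zpow]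
  obtain ⟨Q, hQ⟩ := hp.exists_le_sylow
  have hQc : Nat.card Q = 3 ^ 2 := by
    rw [Q.card_eq_multiplicity, card_SL hF, show (504 : ℕ) = 3 ^ 2 * 56 by norm_num,
      Nat.factorization_mul (by norm_num) (by norm_num), Nat.Prime.factorization_pow Nat.prime_three]
    simp [Nat.factorization_eq_zero_of_not_dvd (show ¬ 3 ∣ 56 by norm_num)]
  have hQC : (Q : Subgroup SL) ≤ C F := by
    intro g hg
    unfold C
    rw [Subgroup.mem_centralizer_iff]
    rintro _ rfl
    have h6 : IsMulCommutative Q := IsPGroup.isMulCommutative_of_card_eq_prime_sq hQc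
    exact congrArg Subtype.val (h6.is_comm.comm ⟨Z F, hQ (Subgroup.mem_zpowers _)⟩ ⟨g, hg⟩)
  have hd : 9 ∣ Nat.card (C F) := by
    have := Subgroup.card_dvd_of_le hQC
    rwa [hQc] at this
  have hpos : 0 < Nat.card (C F) := Nat.card_pos
  obtain ⟨m, hm⟩ := hd
  omega

theorem hgen [CharP F 2] (hF : Fintype.card F = 8) (x : SL) (hx : ∀ c ∈ C F, x * c * x⁻¹ ∈ C F → c = 1) :
    C F ⊔ (C F).map (MulAut.conj x⁻¹).toMonoidHom = ⊤ := by
  by_contra hne
  set K := C F ⊔ (C F).map (MulAut.conj x⁻¹).toMonoidHom with hK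
  have h1 := index_le hF K hne
  have h2 := K.index_mul_card
  rw [card_SL hF] at h2
  have h3 := card_mul_le' (M := K) (H := C F) (K := (C F).map (MulAut.conj x⁻¹).toMonoidHom) le_sup_left le_sup_right
  have h4 : C F ⊓ (C F).map (MulAut.conj x⁻¹).toMonoidHom = ⊥ := by
    rw [eq_bot_iff]
    rintro c ⟨hc, c', hc', he⟩
    rw [Subgroup.mem_bot]
    apply hx c hc
    rw [← he]
    change x * (x⁻¹ * c' * x⁻¹⁻¹) * x⁻¹ ∈ C F
    have : x * (x⁻¹ * c' * x⁻¹⁻¹) * x⁻¹ = c' := by group
    rw [this]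
    exact hc'
  rw [h4, Subgroup.card_bot, mul_one, card_C hF,
    ← Nat.card_congr ((C F).equivMapOfInjective (MulAut.conj x⁻¹).toMonoidHom (MulAut.conj x⁻¹).injective).toEquiv,
    card_C hF] at h3
  have h5 : 9 * Nat.card K ≤ 504 := by
    rw [← h2]
    exact Nat.mul_le_mul_right _ h1
  omega

/-- fixed points of `φ₀` on `C` -/
theorem card_fix [CharP F 2] : Nat.card {c : SL // c ∈ C F ∧ φ₀ c = c} ≤ 3 := by
  classical
  have h2 := two_zero (F := F)
  let S : Finset (F × F) := {(1, 0), (0, 1), (1, 1)}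
  have h01 : ∀ a : F, a ^ 2 = a → a = 0 ∨ a = 1 := by
    intro a ha
    have : a * (a - 1) = 0 := by linear_combination ha
    rcases mul_eq_zero.1 this with h | h
    · exact Or.inl h
    · exact Or.inr (sub_eq_zero.1 h)
  have h4 : Nat.card {c : SL // c ∈ C F ∧ φ₀ c = c} ≤ S.card := by
    rw [← Fintype.card_coe, ← Nat.card_eq_fintype_card]
    refine Nat.card_le_card_of_injective (fun g : {c : SL // c ∈ C F ∧ φ₀ c = c} => (⟨(g.1.1 0 0, g.1.1 1 0), ?_⟩ : {p // p ∈ S})) ?_
    · obtain ⟨g, hg, hgf⟩ := g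
      have h5 := h01 (g.1 0 0) (congrArg (fun z : SL => z.1 0 0) hgf)
      have h6 := h01 (g.1 1 0) (congrArg (fun z : SL => z.1 1 0) hgf)
      have h7 := det_C hg
      simp only [S, Finset.mem_insert, Finset.mem_singleton, Prod.mk.injEq]
      rcases h5 with h5 | h5 <;> rcases h6 with h6 | h6
      · rw [h5, h6] at h7
        simp at h7
      · right; left; exact ⟨h5, h6⟩
      · left; exact ⟨h5, h6⟩
      · right; right; exact ⟨h5, h6⟩
    · intro g h hgh
      have h5 := congrArg (fun z : {p // p ∈ S} => (z : F × F)) hgh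
      simp only [Prod.mk.injEq] at h5
      exact Subtype.ext (ext_C g.2.1 h.2.1 h5.1 h5.2)
  exact h4.trans Finset.card_le_three

theorem orderOf_φ₀ [CharP F 2] (hF : Fintype.card F = 8) : orderOf (φ₀ : MulAut SL) = 3 := by
  have h3p : Fact (Nat.Prime 3) := ⟨Nat.prime_three⟩
  refine orderOf_eq_prime (φ₀_cube hF) ?_
  intro h
  have h1 : Nat.card (C F) ≤ 3 := by
    refine le_trans ?_ (card_fix (F := F))
    exact Nat.card_le_card_of_injective (fun c : C F => (⟨c.1, c.2, by rw [h]; rfl⟩ : {c : SL // c ∈ C F ∧ φ₀ c = c}))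
      (fun a b hab => Subtype.ext (congrArg (fun z : {c : SL // c ∈ C F ∧ φ₀ c = c} => (z : SL)) hab))
  rw [card_C hF] at h1
  omega

variable (F) in
/-- the Sylow 3-subgroup of `Aut SL₂(8)` -/
noncomputable def B [CharP F 2] : Subgroup (MulAut SL) := (C F).map MulAut.conj ⊔ Subgroup.zpowers φ₀

theorem zpow_φ₀_W [CharP F 2] (k : ℤ) : (φ₀ ^ k) (W F) = W F := by
  have h1 : φ₀ ∈ MulAction.stabilizer (MulAut SL) (W F) := φ₀_W
  exact (MulAction.stabilizer (MulAut SL) (W F)).zpow_mem h1 k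

theorem card_B [CharP F 2] (hF : Fintype.card F = 8) : Nat.card (B F) = 27 := by
  have hs := simple hF
  unfold B
  rw [card_sup_norm, Nat.card_zpowers, orderOf_φ₀ hF,
    ← Nat.card_congr ((C F).equivMapOfInjective _ (conj_injective (not_comm hF))).toEquiv, card_C hF]
  · rintro _ ⟨k, rfl⟩ _ ⟨c, hc, rfl⟩
    have key : ∀ α : MulAut SL, (∀ c ∈ C F, α c ∈ C F) → α * MulAut.conj c * α⁻¹ ∈ (C F).map MulAut.conj := by
      intro α hα
      refine ⟨α c, hα c hc, ?_⟩
      ext t
      simp [MulAut.mul_apply, MulAut.conj_apply]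
    apply key
    intro c hc
    -- `φ₀ ^ k` preserves `C`
    have h3 : ∀ n : ℕ, ∀ c ∈ C F, (φ₀ ^ n) c ∈ C F := by
      intro n
      induction n with
      | zero => intro c hc; exact hc
      | succ n ih => intro c hc; rw [pow_succ, MulAut.mul_apply]; exact ih _ (φ₀_mem hc)
    obtain ⟨n, hn⟩ : ∃ n : ℕ, (φ₀ : MulAut SL) ^ k = φ₀ ^ n := by
      have : (φ₀ : MulAut SL) ^ k ∈ Subgroup.zpowers φ₀ := ⟨k, rfl⟩
      rw [← mem_powers_iff_mem_zpowers] at this
      obtain ⟨n, hn⟩ := this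
      exact ⟨n, hn.symm⟩
    change ((φ₀ : MulAut SL) ^ k) c ∈ C F
    rw [hn]
    exact h3 n c hc
  · rintro _ ⟨c, hc, rfl⟩ ⟨k, hk⟩
    have h1 : MulAut.conj c (W F) = W F := by
      rw [← hk]
      exact zpow_φ₀_W k
    rw [MulAut.conj_apply, mul_inv_eq_iff_eq_mul] at h1
    rw [eq_one_of_comm_W hc h1, map_one]

theorem huniq [CharP F 2] (hF : Fintype.card F = 8) (A A' : Subgroup (MulAut SL)) (hA : IsPGroup 3 A)
    (hA' : IsPGroup 3 A') (h1 : ∀ c ∈ C F, MulAut.conj c ∈ A) (h1' : ∀ c ∈ C F, MulAut.conj c ∈ A')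
    (h2 : φ₀ ∈ A) (h2' : φ₀ ∈ A') : A = A' := by
  have h3p : Fact (Nat.Prime 3) := ⟨Nat.prime_three⟩
  have key : ∀ A : Subgroup (MulAut SL), IsPGroup 3 A → (∀ c ∈ C F, MulAut.conj c ∈ A) → φ₀ ∈ A → B F = A := by
    intro A hA h1 h2
    have hle : B F ≤ A := by
      refine sup_le ?_ ?_
      · rintro _ ⟨c, hc, rfl⟩
        exact h1 c hc
      · rw [Subgroup.zpowers_le]
        exact h2
    apply Subgroup.eq_of_le_of_card_ge hle
    rw [card_B hF]
    obtain ⟨n, hn⟩ := hA.exists_card_eq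
    have hd : Nat.card A ∣ 27 * 56 := by
      have := Subgroup.card_subgroup_dvd_card A
      rwa [card_mulAut hF] at this
    have hcop : Nat.Coprime (Nat.card A) 56 := by
      rw [hn]
      exact Nat.Coprime.pow_left _ (by norm_num)
    exact Nat.le_of_dvd (by norm_num) (hcop.dvd_of_dvd_mul_right hd)
  rw [← key A hA h1 h2, ← key A' hA' h1' h2']

end eight

end Cfsg.Agent.H134.Syl.SL8
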